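/-
The orders between 1093 and 3640 excluded by the centralisers of Sylow subgroups of prime order.
-/
import Cfsg.Agent.H4.SmallOrder.Sieve
import Cfsg.Agent.H62.SmallRangeCases
import Cfsg.Agent.S1016
import Cfsg.Agent.S1017

set_option autoImplicit false
set_option linter.unusedSectionVars false

namespace H4
namespace SmallOrder

open Subgroup H32.ExactSieve H62.SmallRange

variable {G : Type*} [Group G] [Finite G] [IsSimpleGroup G]

/-- An element of order two centralising a Sylow subgroup of order `p` moves at least `4 p` of its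
conjugates. -/
theorem false_of_involution_orbit (hG : ¬ IsMulCommutative G) {p k c : ℕ} (hf : Facts G p k c)
    (hpd : p ∣ Nat.card G) (hp2 : p ≠ 2) (h2c : 2 ∣ c) (hk : k < 4 * p) : False := by
  haveI := Fact.mk hf.prime
  haveI := Fact.mk Nat.prime_two
  obtain ⟨P⟩ := (inferInstance : Nonempty (Sylow p G))
  have hP := hf.card_P P
  obtain ⟨x, hx, hxo⟩ := H70.exists_mem_orderOf (P : Subgroup G) p hf.prime (by rw [hP])
  obtain ⟨y, hy, hyo⟩ := H70.exists_mem_orderOf (centralizer ((P : Subgroup G) : Set G)) 2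
    Nat.prime_two (by rwa [hf.card_C P])
  have hxy : Commute x y := hy x hx
  set H := normalizer ((P : Subgroup G) : Set G) with hH
  have hHi : H.index = k := by rw [← hf.card_sylow]; exact P.card_eq_index_normalizer.symm
  have hHt := H62.normalizer_sylow_ne_top hG hpd P
  obtain ⟨hlt, -, hmp⟩ := moved_modEq H (p := p) (q := 2) (hyo ▸ pow_orderOf_eq_one y)
    (H70.ne_one_of_orderOf_prime Nat.prime_two hyo) hHt (hxo ▸ pow_orderOf_eq_one x) hxy
  have hone : Nat.card {c : G ⧸ H // y • c = c ∧ x • c = c} = 1 := by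
    have hfx := H62.card_fixedBy_normalizer_eq_one P hP x hxo
    refine le_antisymm ?_ ?_
    · rw [← hfx]
      exact Nat.card_le_card_of_injective
        (fun c => (⟨c.1, c.2.2⟩ : MulAction.fixedBy (G ⧸ H) x))
        fun a b h => Subtype.ext (congrArg (fun z => z.1) h)
    · haveI : Nonempty {c : G ⧸ H // y • c = c ∧ x • c = c} := by
        refine ⟨⟨((1 : G) : G ⧸ H), ?_, ?_⟩⟩ <;>
          rw [MulAction.Quotient.smul_mk, QuotientGroup.eq, smul_eq_mul, mul_one, mul_one, inv_mem_iff]
        · exact centralizer_le_normalizer _ hy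
        · exact le_normalizer hx
      exact Nat.card_pos
  have h4 := (H65.involution_fixedBy hG H hHt hyo).2
  rw [hone] at hmp
  have hk1 : k % p = 1 := by rw [← hf.card_sylow]; exact H62.card_sylow_mod
  rw [Nat.mod_eq_of_lt hf.prime.one_lt] at hmp
  set F := Nat.card (MulAction.fixedBy (G ⧸ H) y)
  rw [hHi] at hlt h4
  have h1 : p ∣ k - F := (Nat.modEq_iff_dvd' hlt.le).1 (show F % p = k % p by rw [hmp, hk1])
  have hcop : Nat.Coprime p 4 :=
    Nat.Coprime.pow_right 2 ((Nat.coprime_primes hf.prime Nat.prime_two).2 hp2)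
  have h3 := Nat.le_of_dvd (by omega) (hcop.mul_dvd_of_dvd_of_dvd h1 (Nat.dvd_of_mod_eq_zero h4))
  omega

/-- A candidate excluded by one of the four tests. -/
def badCand' (D qs : List ℕ) (n : ℕ) (t : Cand) : Bool :=
  badCand D qs n t || ((t.2.2 % 2 == 0) && decide (t.2.1 < 4 * t.1))

/-- Every consistent assignment has an excluded candidate. -/
def deadOrder' (D ps qs : List ℕ) (n : ℕ) : Bool :=
  (sols D n ps []).all fun acc => acc.any (badCand' D qs n)

theorem false_of_badCand (hG : ¬ IsMulCommutative G) {n : ℕ} (hn : Nat.card G = n)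
    (heven : n % 2 = 0) {D qs : List ℕ} (hqs : qs.all H65.trialPrime = true)
    (hD : ∀ d, d ∣ Nat.card G → d ∈ D) {t : Cand} (hf : Facts G t.1 t.2.1 t.2.2) (hp2 : t.1 ≠ 2)
    (hb : badCand' D qs n t = true) : False := by
  obtain ⟨p, k, c⟩ := t
  have := Fact.mk hf.prime
  obtain ⟨P⟩ := (inferInstance : Nonempty (Sylow p G))
  simp only at hf hp2
  have hpd : p ∣ Nat.card G := hf.card_P P ▸ Subgroup.card_subgroup_dvd_card _
  simp only [badCand', badCand, Bool.or_eq_true, Bool.and_eq_true, beq_iff_eq, List.any_eq_true,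
    decide_eq_true_eq, bne_iff_ne] at hb
  rcases hb with ((hb | ⟨q, hq, ⟨hqp, hqc⟩, hk⟩) | ⟨h8, h4⟩) | ⟨hc2, hk4⟩
  · exact false_of_blockDead hG (hn ▸ Nat.even_iff.2 heven) hD hf (hn ▸ hb)
  · exact false_of_orbit hG hf hpd (prime_list hqs q hq) hqp (Nat.dvd_of_mod_eq_zero hqc) hk
  · exact false_of_index_four hG (hn ▸ h8) hf (hn ▸ Nat.dvd_of_mod_eq_zero h4)
  · exact false_of_involution_orbit hG hf hpd hp2 (Nat.dvd_of_mod_eq_zero hc2) hk4

/-- The consistent assignments of a simple group of the given order, without repeated divisors. -/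
theorem exists_sol' (hG : ¬ IsMulCommutative G) {n : ℕ} (hn : Nat.card G = n) (fs ps : List ℕ)
    (hfs : fs.all H65.trialPrime = true) (hprod : fs.prod = n) (hps : ps.Nodup)
    (hpr : ps.all (fun p => H65.trialPrime p && (p != 2) && (n % p == 0) && (n % (p * p) != 0)) = true) :
    (∀ d, d ∣ Nat.card G → d ∈ (divList fs).dedup) ∧
    ∃ acc ∈ sols (divList fs).dedup n ps [],
      ∀ t ∈ acc, Facts G t.1 t.2.1 t.2.2 := by
  have hD : ∀ d, d ∣ Nat.card G → d ∈ (divList fs).dedup := fun d hd =>
    List.mem_dedup.2 (mem_divList fs (prime_list hfs) d (by rw [hprod, ← hn]; exact hd))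
  obtain ⟨acc, hacc, hfacts⟩ := exists_sol hG (divList fs).dedup hD ps hps (fun p hp => by
    have := List.all_eq_true.1 hpr p hp
    simp only [Bool.and_eq_true, bne_iff_ne, beq_iff_eq] at this
    obtain ⟨⟨⟨a1, a2⟩, a3⟩, a4⟩ := this
    exact ⟨H65.trialPrime_spec a1, a2, hn ▸ Nat.dvd_of_mod_eq_zero a3, hn ▸ a4⟩)
  exact ⟨hD, acc, hn ▸ hacc, hfacts⟩

theorem ne_two_of_mem_sols {D ps : List ℕ} {n : ℕ} {acc : List Cand} (h2 : 2 ∉ ps)
    (h : acc ∈ sols D n ps []) : ∀ t ∈ acc, t.1 ≠ 2 := by
  suffices H : ∀ (ps : List ℕ) (acc₀ : List Cand), 2 ∉ ps → (∀ t ∈ acc₀, t.1 ≠ 2) →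
      ∀ acc ∈ sols D n ps acc₀, ∀ t ∈ acc, t.1 ≠ 2 from H ps [] h2 (by simp) acc h
  intro ps
  induction ps with
  | nil => intro acc₀ _ h0 acc hacc; simp [sols] at hacc; exact hacc ▸ h0
  | cons p ps ih =>
    intro acc₀ hp h0 acc hacc
    rw [sols, List.mem_flatMap] at hacc
    obtain ⟨h', hh', hacc⟩ := hacc
    split at hacc
    · refine ih (h' :: acc₀) (fun hc => hp (List.mem_cons_of_mem _ hc)) ?_ acc hacc
      intro t ht
      rcases List.mem_cons.1 ht with rfl | ht
      · simp only [opts, List.mem_flatMap, List.mem_map] at hh'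
        obtain ⟨k, -, c, -, rfl⟩ := hh'
        exact fun hc => hp (hc ▸ List.mem_cons_self)
      · exact h0 t ht
    · simp at hacc

theorem false_of_deadOrder' {n : ℕ} (hn : Nat.card G = n) (hprime : ¬ n.Prime) (heven : n % 2 = 0)
    (fs ps qs : List ℕ) (hfs : fs.all H65.trialPrime = true) (hprod : fs.prod = n) (hps : ps.Nodup)
    (hpr : ps.all (fun p => H65.trialPrime p && (p != 2) && (n % p == 0) && (n % (p * p) != 0)) = true)
    (hqs : qs.all H65.trialPrime = true) (h2 : 2 ∉ ps)
    (h : deadOrder' (divList fs).dedup ps qs n = true) : False := by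
  have hG : ¬ IsMulCommutative G := H62.not_comm_of_not_prime (hn ▸ hprime)
  obtain ⟨hD, acc, hacc, hfacts⟩ := exists_sol' hG hn fs ps hfs hprod hps hpr
  rw [deadOrder', List.all_eq_true] at h
  obtain ⟨t, ht, hb⟩ := List.any_eq_true.1 (h acc hacc)
  exact false_of_badCand hG hn heven hqs hD (hfacts t ht) (ne_two_of_mem_sols h2 hacc t ht) hb

theorem card_ne_1224 : Nat.card G ≠ 1224 := fun h => false_of_deadOrder' h (by norm_num) rfl
  [2, 2, 2, 3, 3, 17] [17] [2, 3, 17] (by decide) (by decide) (by decide) (by decide) (by decide) (by decide) (by decide +kernel)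

theorem card_ne_1232 : Nat.card G ≠ 1232 := fun h => false_of_deadOrder' h (by norm_num) rfl
  [2, 2, 2, 2, 7, 11] [11, 7] [2, 7, 11] (by decide) (by decide) (by decide) (by decide) (by decide) (by decide) (by decide +kernel)

theorem card_ne_1404 : Nat.card G ≠ 1404 := fun h => false_of_deadOrder' h (by norm_num) rfl
  [2, 2, 3, 3, 3, 13] [13] [2, 3, 13] (by decide) (by decide) (by decide) (by decide) (by decide) (by decide) (by decide +kernel)

theorem card_ne_1560 : Nat.card G ≠ 1560 := fun h => false_of_deadOrder' h (by norm_num) rfl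
  [2, 2, 2, 3, 5, 13] [13, 5, 3] [2, 3, 5, 13] (by decide) (by decide) (by decide) (by decide) (by decide) (by decide) (by decide +kernel)

theorem card_ne_1620 : Nat.card G ≠ 1620 := fun h => false_of_deadOrder' h (by norm_num) rfl
  [2, 2, 3, 3, 3, 3, 5] [5] [2, 3, 5] (by decide) (by decide) (by decide) (by decide) (by decide) (by decide) (by decide +kernel)

theorem card_ne_1716 : Nat.card G ≠ 1716 := fun h => false_of_deadOrder' h (by norm_num) rfl
  [2, 2, 3, 11, 13] [13, 11, 3] [2, 3, 11, 13] (by decide) (by decide) (by decide) (by decide) (by decide) (by decide) (by decide +kernel)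

theorem card_ne_1980 : Nat.card G ≠ 1980 := fun h => false_of_deadOrder' h (by norm_num) rfl
  [2, 2, 3, 3, 5, 11] [11, 5] [2, 3, 5, 11] (by decide) (by decide) (by decide) (by decide) (by decide) (by decide) (by decide +kernel)

theorem card_ne_2080 : Nat.card G ≠ 2080 := fun h => false_of_deadOrder' h (by norm_num) rfl
  [2, 2, 2, 2, 2, 5, 13] [13, 5] [2, 5, 13] (by decide) (by decide) (by decide) (by decide) (by decide) (by decide) (by decide +kernel)

theorem card_ne_2268 : Nat.card G ≠ 2268 := fun h => false_of_deadOrder' h (by norm_num) rfl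
  [2, 2, 3, 3, 3, 3, 7] [7] [2, 3, 7] (by decide) (by decide) (by decide) (by decide) (by decide) (by decide) (by decide +kernel)

theorem card_ne_2464 : Nat.card G ≠ 2464 := fun h => false_of_deadOrder' h (by norm_num) rfl
  [2, 2, 2, 2, 2, 7, 11] [11, 7] [2, 7, 11] (by decide) (by decide) (by decide) (by decide) (by decide) (by decide) (by decide +kernel)

theorem card_ne_2808 : Nat.card G ≠ 2808 := fun h => false_of_deadOrder' h (by norm_num) rfl
  [2, 2, 2, 3, 3, 3, 13] [13] [2, 3, 13] (by decide) (by decide) (by decide) (by decide) (by decide) (by decide) (by decide +kernel)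

theorem card_ne_2976 : Nat.card G ≠ 2976 := fun h => false_of_deadOrder' h (by norm_num) rfl
  [2, 2, 2, 2, 2, 3, 31] [31, 3] [2, 3, 31] (by decide) (by decide) (by decide) (by decide) (by decide) (by decide) (by decide +kernel)

theorem card_ne_3080 : Nat.card G ≠ 3080 := fun h => false_of_deadOrder' h (by norm_num) rfl
  [2, 2, 2, 5, 7, 11] [11, 7, 5] [2, 5, 7, 11] (by decide) (by decide) (by decide) (by decide) (by decide) (by decide) (by decide +kernel)

theorem card_ne_3120 : Nat.card G ≠ 3120 := fun h => false_of_deadOrder' h (by norm_num) rfl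
  [2, 2, 2, 2, 3, 5, 13] [13, 5, 3] [2, 3, 5, 13] (by decide) (by decide) (by decide) (by decide) (by decide) (by decide) (by decide +kernel)

theorem card_ne_3168 : Nat.card G ≠ 3168 := fun h => false_of_deadOrder' h (by norm_num) rfl
  [2, 2, 2, 2, 2, 3, 3, 11] [11] [2, 3, 11] (by decide) (by decide) (by decide) (by decide) (by decide) (by decide) (by decide +kernel)

theorem card_ne_3432 : Nat.card G ≠ 3432 := fun h => false_of_deadOrder' h (by norm_num) rfl
  [2, 2, 2, 3, 11, 13] [13, 11, 3] [2, 3, 11, 13] (by decide) (by decide) (by decide) (by decide) (by decide) (by decide) (by decide +kernel)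

theorem card_ne_3444 : Nat.card G ≠ 3444 := fun h => false_of_deadOrder' h (by norm_num) rfl
  [2, 2, 3, 7, 41] [41, 7, 3] [2, 3, 7, 41] (by decide) (by decide) (by decide) (by decide) (by decide) (by decide) (by decide +kernel)

theorem card_ne_1344 : Nat.card G ≠ 1344 := fun h => false_of_threePrimes (p := 2) (q := 7) (r := 3)
  (a := 6) (b := 1) h (by norm_num) (by norm_num) (by norm_num) (by norm_num) (by norm_num)
  (by norm_num) (by norm_num) (by norm_num) (by decide +kernel)

theorem card_ne_2880 : Nat.card G ≠ 2880 := fun h => false_of_threePrimes (p := 2) (q := 3) (r := 5)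
  (a := 6) (b := 2) h (by norm_num) (by norm_num) (by norm_num) (by norm_num) (by norm_num)
  (by norm_num) (by norm_num) (by norm_num) (by decide +kernel)

theorem card_ne_3024 : Nat.card G ≠ 3024 := fun h => false_of_threePrimes (p := 2) (q := 3) (r := 7)
  (a := 4) (b := 3) h (by norm_num) (by norm_num) (by norm_num) (by norm_num) (by norm_num)
  (by norm_num) (by norm_num) (by norm_num) (by decide +kernel)

theorem card_ne_3240 : Nat.card G ≠ 3240 := fun h => false_of_threePrimes (p := 2) (q := 3) (r := 5)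
  (a := 3) (b := 4) h (by norm_num) (by norm_num) (by norm_num) (by norm_num) (by norm_num)
  (by norm_num) (by norm_num) (by norm_num) (by decide +kernel)

end SmallOrder
end H4
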