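/-
A self-centralising Sylow subgroup of prime order `p` with normaliser of order `p (p - 1)`.
-/
import Cfsg.Agent.H62.InvertCount
import Cfsg.Agent.H62.SelfCentralNumber
import Cfsg.Agent.H65.Order720

set_option autoImplicit false
set_option linter.unusedSectionVars false

namespace H4
namespace SmallOrder

open Subgroup
open scoped ComplexConjugate

universe u

variable {G : Type u} [Group G] [Fintype G] {p : ℕ} [hp : Fact p.Prime] {P : Sylow p G}

theorem isConj_of_full_normalizer (hP : Nat.card (P : Subgroup G) = p)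
    (hC : centralizer ((P : Subgroup G) : Set G) = (P : Subgroup G))
    (hN : Nat.card (normalizer ((P : Subgroup G) : Set G)) = p * (p - 1))
    {g w : G} (hg : g ∈ (P : Subgroup G)) (hg1 : g ≠ 1) (hw : w ∈ (P : Subgroup G)) (hw1 : w ≠ 1) :
    IsConj g w := by
  classical
  set N := normalizer ((P : Subgroup G) : Set G) with hNdef
  have hCg := H62.centralizer_eq_of_mem hP hC hg hg1
  set K := (P : Subgroup G).subgroupOf N with hK
  have hKcard : Nat.card K = p := by
    rw [hK, Nat.card_congr (subgroupOfEquivOfLe le_normalizer).toEquiv, hP]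
  have hidx : Nat.card (N ⧸ K) = p - 1 := by
    have h1 := K.card_mul_index
    rw [hKcard, hN] at h1
    exact Nat.eq_of_mul_eq_mul_left hp.out.pos h1
  let f : N ⧸ K → {w : (P : Subgroup G) // w ≠ 1} := Quotient.lift
    (fun y : N => ⟨⟨(y : G) * g * (y : G)⁻¹, (mem_normalizer_iff.1 y.2 g).1 hg⟩,
      fun h => hg1 (conj_eq_one_iff.1 (congrArg Subtype.val h))⟩)
    (fun a b hab => by
      have h0 : a⁻¹ * b ∈ K := QuotientGroup.leftRel_apply.1 hab
      have h1 : (a : G)⁻¹ * (b : G) ∈ (P : Subgroup G) := h0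
      rw [← hCg, mem_centralizer_singleton_iff] at h1
      apply Subtype.ext
      apply Subtype.ext
      show (a : G) * g * (a : G)⁻¹ = (b : G) * g * (b : G)⁻¹
      calc (a : G) * g * (a : G)⁻¹
          = (a : G) * (g * ((a : G)⁻¹ * (b : G))) * (b : G)⁻¹ := by group
        _ = (b : G) * g * (b : G)⁻¹ := by rw [← h1]; group)
  have hinj : Function.Injective f := by
    intro x y
    refine Quotient.inductionOn₂ x y fun a b hab => Quotient.sound ?_
    have h1 : (a : G) * g * (a : G)⁻¹ = (b : G) * g * (b : G)⁻¹ :=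
      congrArg Subtype.val (congrArg Subtype.val hab)
    refine QuotientGroup.leftRel_apply.2 ?_
    show (a : G)⁻¹ * (b : G) ∈ (P : Subgroup G)
    rw [← hCg, mem_centralizer_singleton_iff]
    calc (a : G)⁻¹ * (b : G) * g = (a : G)⁻¹ * ((b : G) * g * (b : G)⁻¹) * (b : G) := by group
      _ = g * ((a : G)⁻¹ * (b : G)) := by rw [← h1]; group
  have hcard : Nat.card {w : (P : Subgroup G) // w ≠ 1} = p - 1 := by
    have : Fintype (P : Subgroup G) := Fintype.ofFinite _
    rw [Nat.card_eq_fintype_card, Fintype.card_subtype_compl, Fintype.card_subtype_eq,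
      ← Nat.card_eq_fintype_card, hP]
  obtain ⟨x, hx⟩ := (hinj.bijective_of_nat_card_le (by rw [hcard, hidx])).2
    ⟨⟨w, hw⟩, fun h => hw1 (congrArg Subtype.val h)⟩
  induction x using Quotient.inductionOn with
  | h a => exact isConj_iff.2 ⟨a, congrArg Subtype.val (congrArg Subtype.val hx)⟩

/-- The values at an element of order `p` are integers congruent to the degree. -/
theorem irr_int_of_full (hP : Nat.card (P : Subgroup G) = p)
    (hC : centralizer ((P : Subgroup G) : Set G) = (P : Subgroup G))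
    (hN : Nat.card (normalizer ((P : Subgroup G) : Set G)) = p * (p - 1))
    {g : G} (hg : g ∈ (P : Subgroup G)) (hg1 : g ≠ 1) (χ : Cfsg.IrrCharacter G) :
    ∃ e : ℤ, (χ : G → ℂ) g = e ∧ (p : ℤ) ∣ (H12.degree (χ : G → ℂ) : ℤ) - e := by
  classical
  haveI : Fintype (P : Subgroup G) := Fintype.ofFinite _
  obtain ⟨m, hm⟩ := H12.IsCharacter.classInner_nat
    (H12.IsCharacter.res (H12.isCharacter_irr χ) (P : Subgroup G))
    (H12.isCharacter_monoidHom (1 : (P : Subgroup G) →* ℂˣ))
  rw [H12.classInner_def, ← Finset.add_sum_erase _ _ (Finset.mem_univ (1 : (P : Subgroup G))),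
    Finset.sum_congr rfl (g := fun _ => (χ : G → ℂ) g) (fun u hu => by
      have := (H12.isConj_iff_irr g (u : G)).1 (isConj_of_full_normalizer hP hC hN hg hg1 u.2
        fun h1 => Finset.ne_of_mem_erase hu (Subtype.ext h1)) χ
      simp [this]),
    Finset.sum_const, Finset.card_erase_of_mem (Finset.mem_univ _), Finset.card_univ,
    nsmul_eq_mul, ← Nat.card_eq_fintype_card, hP, Nat.cast_sub hp.out.one_le] at hm
  simp only [OneMemClass.coe_one, MonoidHom.one_apply, Units.val_one, map_one, mul_one,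
    H12.irr_apply_one, Nat.cast_one] at hm
  rw [inv_mul_eq_iff_eq_mul₀ (Nat.cast_ne_zero.2 hp.out.ne_zero)] at hm
  set d := H12.degree (χ : G → ℂ)
  have hp1 : ((p : ℂ) - 1) ≠ 0 := sub_ne_zero.2 (by exact_mod_cast hp.out.one_lt.ne')
  have hq : (χ : G → ℂ) g = (((p * m : ℚ) - d) / (p - 1) : ℚ) := by
    push_cast
    rw [eq_div_iff hp1]
    linear_combination hm
  obtain ⟨e, he⟩ := H12.exists_int_of_isIntegral_rat (q := ((p * m : ℚ) - d) / (p - 1))
    (hq ▸ H12.IsCharacter.isIntegral (H12.isCharacter_irr χ) g)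
  refine ⟨e, by rw [hq, ← he, Rat.cast_intCast], ⟨(m : ℤ) - e, ?_⟩⟩
  have h' : (((p : ℤ) - 1) * e : ℤ) = ((p : ℤ) * m - d : ℤ) := by
    have : (((p : ℤ) - 1) * e : ℚ) = ((p : ℤ) * m - d : ℚ) := by
      push_cast
      rw [he, mul_div_cancel₀]
      exact sub_ne_zero.2 (by exact_mod_cast hp.out.one_lt.ne')
    exact_mod_cast this
  linear_combination h'

end SmallOrder
end H4
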