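/-
The orders 1260, 1680, 1800, 2100, 2400, 2688, 2700 and 3360.
-/
import Cfsg.Agent.H4.SmallOrder.Cases
import Cfsg.Agent.H62.SmallRangeHard
import Cfsg.Agent.S3331
import Cfsg.Agent.H37.SmallIsoBig

set_option autoImplicit false
set_option linter.unusedSectionVars false

namespace H4
namespace SmallOrder

open Subgroup H32.ExactSieve H62.SmallRange

universe u

variable {G : Type u} [Group G] [Finite G] [IsSimpleGroup G]

theorem card_ne_1260 : Nat.card G ≠ 1260 := fun h => false_of_deadOrder' h (by norm_num) rfl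
  [2, 2, 3, 3, 5, 7] [7, 5] [2, 3, 5, 7] (by decide) (by decide) (by decide) (by decide) (by decide)
  (by decide) (by decide +kernel)

/-- With a self-centralising subgroup of order three a simple group has order 60 or 168. -/
theorem false_of_self_three {n a b q : ℕ} (hn : Nat.card G = n) (hq : q.Prime) (hq2 : q ≠ 2) (hq3 : q ≠ 3)
    (he : n = 2 ^ a * q ^ b * 3) (hnp : ¬ n.Prime) (h60 : n ≠ 60) (h168 : n ≠ 168)
    (hn6 : 6 < n) : False := by
  haveI := Fact.mk Nat.prime_three
  have hG : ¬ IsMulCommutative G := H62.not_comm_of_not_prime (hn ▸ hnp)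
  obtain ⟨P⟩ := (inferInstance : Nonempty (Sylow 3 G))
  obtain ⟨hP, hC, -⟩ := H62.normalizer_threePrimes (a := a) (b := b) Nat.prime_two hq hq2.symm
    (by norm_num) hq3 (hn.trans he) (he ▸ hnp) P
  rcases Cfsg.Agent.S3331.result (P : Subgroup G) hP hC with ⟨N, hN, hnil, -, hq'⟩ |
      ⟨N, hN, hab, -, ⟨f⟩⟩ | ⟨⟨f⟩⟩
  · rcases hN.eq_bot_or_eq_top with h | h
    · subst h
      have hc : Nat.card (G ⧸ (⊥ : Subgroup G)) = n := by rw [← hn]; exact index_bot
      rcases hq' with h3 | ⟨⟨f⟩⟩
      · omega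
      · have := Nat.card_congr f.toEquiv
        rw [Nat.card_perm, Nat.card_fin] at this
        rw [hc] at this
        norm_num [Nat.factorial] at this
        omega
    · subst h
      haveI : Group.IsNilpotent (⊤ : Subgroup G) := hnil
      haveI : Group.IsNilpotent G := Group.nilpotent_of_mulEquiv (Subgroup.topEquiv (G := G))
      exact hG ⟨⟨IsSimpleGroup.comm_iff_isSolvable.2 inferInstance⟩⟩
  · rcases hN.eq_bot_or_eq_top with h | h
    · subst h
      have hc : Nat.card (G ⧸ (⊥ : Subgroup G)) = n := by rw [← hn]; exact index_bot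
      have := Nat.card_congr f.toEquiv
      rw [hc, Nat.card_eq_fintype_card, show Fintype.card (alternatingGroup (Fin 5)) = 60 from by
        decide +kernel] at this
      exact h60 this
    · subst h
      exact hG ⟨⟨fun x y => congrArg Subtype.val
        (hab.is_comm.comm (⟨x, mem_top x⟩ : (⊤ : Subgroup G)) ⟨y, mem_top y⟩)⟩⟩
  · have := Nat.card_congr f.toEquiv
    haveI h7 : Fact (Nat.Prime 7) := ⟨by norm_num⟩
    have h2 := H37.card_PSL_two (F := ZMod 7)
    rw [Nat.card_zmod] at h2
    norm_num [-Nat.card_eq_fintype_card] at h2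
    rw [hn] at this
    apply h168
    omega

theorem card_ne_2400 : Nat.card G ≠ 2400 := fun h => false_of_self_three (a := 5) (b := 2) h
  Nat.prime_five (by norm_num) (by norm_num) (by norm_num) (by norm_num) (by norm_num) (by norm_num)
  (by norm_num)

theorem card_ne_2688 : Nat.card G ≠ 2688 := fun h => false_of_self_three (a := 7) (b := 1) (q := 7) h
  (by norm_num) (by norm_num) (by norm_num) (by norm_num) (by norm_num) (by norm_num) (by norm_num)
  (by norm_num)

/-- The orders `25 m` in which a normaliser of an intersection of Sylow `5`-subgroups has a normal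
Sylow `5`-subgroup. -/
theorem false_of_five {n m : ℕ} (hn : Nat.card G = n) (hnp : ¬ n.Prime) (hm : n = 25 * m)
    (h5 : ¬ 5 ∣ m)
    (hk : ∀ k ∈ (Nat.divisors m).filter (fun d => d % 5 = 1 ∧ 1 < d ∧ 2 * n ∣ d.factorial), k % 25 ≠ 1)
    (key : ∀ k ∈ Nat.divisors m, ∀ i ∈ (Nat.divisors n).filter
        (fun d => 1 < d ∧ 2 * n ∣ d.factorial), i * k = m →
        ∀ d ∈ k.divisors, 1 < d → d % 5 = 1 →
        k % 4 = 2 ∧ ¬ 5 ∣ k ∧ ∀ e ∈ (k / 2).divisors, e % 5 = 1 → e = 1) : False := by
  have hG : ¬ IsMulCommutative G := H62.not_comm_of_not_prime (hn ▸ hnp)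
  haveI : Fact (Nat.Prime 5) := ⟨by norm_num⟩
  have hc : Nat.card G = 5 ^ 2 * m := by rw [hn, hm]; norm_num
  have hm0 : m ≠ 0 := fun h => by rw [h, mul_zero] at hm; rw [hm] at hn; exact Nat.card_pos.ne' hn
  have hk' := H65.sylow_candidate (p := 5) hG hn (m := m) (a := 2) (by rw [hm]; norm_num) h5 (by norm_num)
  obtain ⟨D, M, -, -, hMtop, k, d, hMk, hik, hdk, hd1, hd5, hdc⟩ :=
    H62.exists_index_of_not_modEq (p := 5) hc h5 (le_refl 2) (by
      intro h
      exact hk _ hk' (by simpa [Nat.ModEq] using h))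
  have hi := H65.index_candidate hG hn M hMtop
  have hkd : k ∈ Nat.divisors m := Nat.mem_divisors.2 ⟨Dvd.intro_left _ hik, hm0⟩
  obtain ⟨h4, h5', he⟩ := key k hkd _ hi hik d (Nat.mem_divisors.2 ⟨hdk,
    fun h => by rw [h, Nat.mem_divisors] at hkd; exact hm0 (Nat.eq_zero_of_zero_dvd hkd.1)⟩) hd1 hd5
  have := card_sylow_five_eq_one (M := M) (k := k) (by rw [hMk]; norm_num) h4 h5' he
  omega

theorem card_ne_1800 : Nat.card G ≠ 1800 := fun h => false_of_five (m := 72) h (by norm_num)
  (by norm_num) (by norm_num) (by decide +kernel) (by decide +kernel)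

theorem card_ne_2100 : Nat.card G ≠ 2100 := fun h => false_of_five (m := 84) h (by norm_num)
  (by norm_num) (by norm_num) (by decide +kernel) (by decide +kernel)

theorem card_ne_2700 : Nat.card G ≠ 2700 := fun h => false_of_five (m := 108) h (by norm_num)
  (by norm_num) (by norm_num) (by decide +kernel) (by decide +kernel)

/-- A group of order eight centralising a Sylow subgroup of order five with twenty-one conjugates. -/
theorem false_of_eight (hG : ¬ IsMulCommutative G) {c : ℕ} (hf : Facts G 5 21 c) (h8 : 8 ∣ c) :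
    False := by
  classical
  haveI : Fact (Nat.Prime 5) := ⟨by norm_num⟩
  haveI := Fact.mk Nat.prime_two
  obtain ⟨P⟩ := (inferInstance : Nonempty (Sylow 5 G))
  have hP := hf.card_P P
  have hpd : 5 ∣ Nat.card G := hP ▸ Subgroup.card_subgroup_dvd_card _
  obtain ⟨x, hx, hxo⟩ := H70.exists_mem_orderOf (P : Subgroup G) 5 (by norm_num) (by rw [hP])
  set C := centralizer ((P : Subgroup G) : Set G) with hC
  set H := normalizer ((P : Subgroup G) : Set G) with hH
  have hHi : H.index = 21 := by rw [← hf.card_sylow]; exact P.card_eq_index_normalizer.symm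
  have hHt := H62.normalizer_sylow_ne_top hG hpd P
  obtain ⟨R, hR⟩ := Sylow.exists_subgroup_card_pow_prime (G := C) 2 (n := 3)
    (show 2 ^ 3 ∣ Nat.card C by rw [hC, hf.card_C P]; exact h8)
  set o : G ⧸ H := ((1 : G) : G ⧸ H) with ho
  have hfix : ∀ r : C, (r : G) • o = o := fun r => by
    rw [ho, MulAction.Quotient.smul_mk, QuotientGroup.eq, smul_eq_mul, mul_one, mul_one, inv_mem_iff]
    exact centralizer_le_normalizer _ r.2
  have hone : ∀ u : G, orderOf u = 2 → u ∈ C → ∀ α : G ⧸ H, u • α = α → α = o := by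
    intro u hu huC α hα
    obtain ⟨hlt, -, hmp⟩ := moved_modEq H (p := 5) (q := 2) (hu ▸ pow_orderOf_eq_one u)
      (H70.ne_one_of_orderOf_prime Nat.prime_two hu) hHt (hxo ▸ pow_orderOf_eq_one x) (huC x hx)
    have hfx := H62.card_fixedBy_normalizer_eq_one P hP x hxo
    haveI : Nonempty {c : G ⧸ H // u • c = c ∧ x • c = c} := by
      refine ⟨⟨o, hfix ⟨u, huC⟩, ?_⟩⟩
      rw [ho, MulAction.Quotient.smul_mk, QuotientGroup.eq, smul_eq_mul, mul_one, mul_one, inv_mem_iff]
      exact le_normalizer hx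
    have hboth : Nat.card {c : G ⧸ H // u • c = c ∧ x • c = c} = 1 := le_antisymm (by
      rw [← hfx]
      exact Nat.card_le_card_of_injective
        (fun c => (⟨c.1, c.2.2⟩ : MulAction.fixedBy (G ⧸ H) x))
        fun a b h => Subtype.ext (congrArg (fun z => z.1) h)) Nat.card_pos
    rw [hboth] at hmp
    have h4 := (H65.involution_fixedBy hG H hHt hu).2
    rw [hHi] at hlt h4
    have h1 : Nat.card (MulAction.fixedBy (G ⧸ H) u) = 1 := by omega
    have h2 := (Nat.card_eq_one_iff_unique.1 h1).1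
    exact congrArg Subtype.val (h2.elim (⟨α, hα⟩ : MulAction.fixedBy (G ⧸ H) u) ⟨o, hfix ⟨u, huC⟩⟩)
  let Y := {α : G ⧸ H // α ≠ o}
  letI : MulAction R Y :=
    { smul := fun r α => ⟨((r : C) : G) • α.1, fun h => α.2 (MulAction.injective ((r : C) : G)
        (h.trans (hfix (r : C)).symm))⟩
      one_smul := fun α => Subtype.ext (one_smul G α.1)
      mul_smul := fun r s α => Subtype.ext (mul_smul ((r : C) : G) ((s : C) : G) α.1) }
  have hfree : ∀ α : Y, MulAction.stabilizer R α = ⊥ := by
    intro α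
    rw [Subgroup.eq_bot_iff_forall]
    intro r hr
    by_contra hr1
    have hpos := orderOf_pos r
    have hd : orderOf r ∣ 2 ^ 3 := hR ▸ orderOf_dvd_natCard r
    obtain ⟨j, hj, hjo⟩ := (Nat.dvd_prime_pow Nat.prime_two).1 hd
    have h2 : 2 ∣ orderOf r := by
      rcases Nat.eq_zero_or_pos j with rfl | hj0
      · exact absurd (orderOf_eq_one_iff.1 (by simpa using hjo)) hr1
      · exact hjo ▸ dvd_pow_self 2 hj0.ne'
    set u := r ^ (orderOf r / 2)
    have hu : orderOf u = 2 := orderOf_pow_orderOf_div hpos.ne' h2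
    have huG : orderOf ((u : C) : G) = 2 := by rw [Subgroup.orderOf_coe, Subgroup.orderOf_coe, hu]
    have hmem : u ∈ MulAction.stabilizer R α := pow_mem hr _
    exact α.2 (hone _ huG (u : C).2 α.1 (congrArg Subtype.val hmem))
  have hY : Nat.card Y = 20 := by
    have h1 := Nat.card_congr (Equiv.sumCompl (fun α : G ⧸ H => α = o))
    rw [Nat.card_sum, Nat.card_unique, ← Subgroup.index, hHi] at h1
    show Nat.card {α : G ⧸ H // α ≠ o} = 20
    simp only [ne_eq]
    omega
  have := Nat.card_congr (MulAction.selfEquivOrbitsQuotientProd hfree)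
  rw [Nat.card_prod, hR, hY] at this
  omega

theorem card_ne_3360 : Nat.card G ≠ 3360 := by
  intro hn
  have hG : ¬ IsMulCommutative G := H62.not_comm_of_not_prime (hn ▸ by norm_num)
  obtain ⟨hD, acc, hacc, hf⟩ := exists_sol' hG hn [2, 2, 2, 2, 2, 3, 5, 7] [7, 5, 3] (by decide)
    (by decide) (by decide) (by decide)
  have key : ∀ acc ∈ sols (divList [2, 2, 2, 2, 2, 3, 5, 7]).dedup 3360 [7, 5, 3] [],
      acc.any (badCand' (divList [2, 2, 2, 2, 2, 3, 5, 7]).dedup [2, 3, 5, 7] 3360) = true ∨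
        (5, 21, 40) ∈ acc := by decide +kernel
  rcases key acc hacc with hb | h5
  · obtain ⟨t, ht, hb⟩ := List.any_eq_true.1 hb
    exact false_of_badCand hG hn (by norm_num) (by decide) hD (hf t ht)
      (ne_two_of_mem_sols (by decide) hacc t ht) hb
  · exact false_of_eight hG (hf _ h5 : Facts G 5 21 40) (by norm_num)

end SmallOrder
end H4
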