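/-
No simple group has order 1512.
-/
import Cfsg.Agent.H4.SmallOrder.FullNormalizer
import Cfsg.Agent.H62.Order5472
import Cfsg.Agent.H62.SmallRangeOrbit

set_option autoImplicit false
set_option linter.unusedSectionVars false

open Cfsg Subgroup
open scoped ComplexConjugate

namespace H4
namespace SmallOrder

/-- `(degree, value at an element of order seven, value at an involution)`. -/
def opts1512 : List (ℤ × ℤ × ℤ) :=
  [(12, -2, -4), (12, -2, 4), (9, 2, -3), (9, 2, 1), (12, -2, 0), (8, 1, -4), (8, 1, 4),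
   (36, 1, -4), (36, 1, 4), (27, -1, 3), (6, -1, -2), (6, -1, 2), (27, -1, -1), (8, 1, 0), (36, 1, 0)]

/-- The contributions of a character to the five column sums. -/
def contrib (q : ℤ × ℤ × ℤ) : ℤ × ℤ × ℤ × ℤ × ℤ :=
  (q.2.1 * q.2.1, q.1 * q.2.1, q.2.1 * q.2.2, q.2.2 * q.2.2, 216 / q.1 * q.2.1 * q.2.2 * q.2.2)

/-- No multiset of options has the required sums. -/
def search1512 : List (ℤ × ℤ × ℤ) → ℤ × ℤ × ℤ × ℤ × ℤ → Bool
  | [], a => ! (decide (a.1 = 6) && decide (a.2.1 = -1) && decide (a.2.2.1 = -1) &&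
      decide (a.2.2.2.1 ≤ 23) && decide (a.2.2.2.2 = 360))
  | q :: l, a => (List.range 7).all fun j =>
      decide (6 < a.1 + (j : ℤ) * (q.2.1 * q.2.1)) ||
      decide (23 < a.2.2.2.1 + (j : ℤ) * (q.2.2 * q.2.2)) || search1512 l (a + j • contrib q)

theorem search1512_eq : search1512 opts1512 0 = true := by decide +kernel

theorem contrib_nonneg (q : ℤ × ℤ × ℤ) : 0 ≤ (contrib q).1 := mul_self_nonneg _

theorem false_of_search {ι : Type*} [DecidableEq ι] (f : ι → ℤ × ℤ × ℤ) :
    ∀ (l : List (ℤ × ℤ × ℤ)) (S : Finset ι) (a : ℤ × ℤ × ℤ × ℤ × ℤ),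
      (∀ i ∈ S, f i ∈ l ∧ (f i).2.1 ≠ 0) → 0 ≤ a.1 → search1512 l a = true →
      ((a + ∑ i ∈ S, contrib (f i)).1 = 6 ∧ (a + ∑ i ∈ S, contrib (f i)).2.1 = -1 ∧
        (a + ∑ i ∈ S, contrib (f i)).2.2.1 = -1 ∧ (a + ∑ i ∈ S, contrib (f i)).2.2.2.1 ≤ 23 ∧
        (a + ∑ i ∈ S, contrib (f i)).2.2.2.2 = 360) → False := by
  intro l
  induction l with
  | nil =>
    intro S a hS _ hs h
    have : S = ∅ := Finset.eq_empty_of_forall_notMem fun i hi => by simpa using (hS i hi).1
    subst this
    simp only [Finset.sum_empty, add_zero] at h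
    simp [search1512, h.1, h.2.1, h.2.2.1, h.2.2.2.1, h.2.2.2.2] at hs
  | cons q l ih =>
    intro S a hS ha hs h
    set A := S.filter fun i => f i = q with hA
    set B := S.filter fun i => ¬ f i = q with hB
    have hsum : ∑ i ∈ S, contrib (f i) = A.card • contrib q + ∑ i ∈ B, contrib (f i) := by
      rw [← Finset.sum_filter_add_sum_filter_not S (fun i => f i = q),
        Finset.sum_congr rfl (fun i hi => by rw [(Finset.mem_filter.1 hi).2] :
          ∀ i ∈ S.filter (fun i => f i = q), contrib (f i) = contrib q), Finset.sum_const]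
    rw [hsum, ← add_assoc] at h
    have hB0 : 0 ≤ (∑ i ∈ B, contrib (f i)).1 := by
      rw [Prod.fst_sum]; exact Finset.sum_nonneg fun i _ => contrib_nonneg _
    have h1 : a.1 + (A.card : ℤ) * (q.2.1 * q.2.1) + (∑ i ∈ B, contrib (f i)).1 = 6 := by
      have := h.1
      simpa [contrib] using this
    have hq1 : 0 ≤ q.2.1 * q.2.1 := mul_self_nonneg _
    have hle : a.1 + (A.card : ℤ) * (q.2.1 * q.2.1) ≤ 6 := by linarith
    have hlt : A.card < 7 := by
      rcases A.eq_empty_or_nonempty with h0 | ⟨i, hi⟩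
      · simp [h0]
      · have hne : q.2.1 ≠ 0 := (Finset.mem_filter.1 hi).2 ▸ (hS i (Finset.mem_filter.1 hi).1).2
        have : 1 ≤ q.2.1 * q.2.1 := by
          have := mul_self_pos.2 hne; omega
        have : (A.card : ℤ) ≤ 6 := by nlinarith
        omega
    simp only [search1512, List.all_eq_true, List.mem_range, Bool.or_eq_true, decide_eq_true_eq] at hs
    have hB4 : 0 ≤ (∑ i ∈ B, contrib (f i)).2.2.2.1 := by
      simp only [Prod.fst_sum, Prod.snd_sum]
      exact Finset.sum_nonneg fun i _ => mul_self_nonneg _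
    have h4 : a.2.2.2.1 + (A.card : ℤ) * (q.2.2 * q.2.2) + (∑ i ∈ B, contrib (f i)).2.2.2.1 ≤ 23 := by
      have := h.2.2.2.1
      simpa [contrib] using this
    rcases hs A.card hlt with (h6 | h23) | hs'
    · omega
    · omega
    refine ih B (a + A.card • contrib q) (fun i hi => ?_) ?_ hs' h
    · obtain ⟨hiS, hiq⟩ := Finset.mem_filter.1 hi
      exact ⟨(List.mem_cons.1 (hS i hiS).1).resolve_left hiq, (hS i hiS).2⟩
    · rw [Prod.fst_add, Prod.smul_fst]
      exact add_nonneg ha (nsmul_nonneg (contrib_nonneg q) _)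

theorem mem_opts1512 : ∀ d ∈ List.range 39, d ∣ 1512 → 2 < d → ∀ e ∈ ([-2, -1, 1, 2] : List ℤ),
    (7 : ℤ) ∣ (d : ℤ) - e → ∀ v ∈ ([-4, -3, -2, -1, 0, 1, 2, 3, 4] : List ℤ),
    (4 : ℤ) ∣ (d : ℤ) - v → ((d : ℤ), e, v) ∈ opts1512 := by
  decide +kernel

theorem opts1512_dvd : ∀ q ∈ opts1512, q.1 * (216 / q.1) = 216 := by decide +kernel

universe u

variable {G : Type u} [Group G]

theorem card_ne_1512 [Finite G] [IsSimpleGroup G] : Nat.card G ≠ 1512 := by
  intro h
  classical
  have := Fintype.ofFinite G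
  haveI : Fact (Nat.Prime 7) := ⟨by norm_num⟩
  have hG : ¬ IsMulCommutative G := H62.not_comm_of_not_prime (by rw [h]; norm_num)
  have hna : Subgroup.center G ≠ ⊤ := fun hc =>
    hG ⟨⟨fun a b => (Subgroup.mem_center_iff.1 (hc ▸ Subgroup.mem_top b) a)⟩⟩
  obtain ⟨P⟩ := (inferInstance : Nonempty (Sylow 7 G))
  obtain ⟨hP, hC, e', he', hN⟩ := H62.normalizer_threePrimes (p := 2) (q := 3) (r := 7) (a := 3)
    (b := 3) Nat.prime_two Nat.prime_three (by decide) (by decide) (by decide)
    (h.trans (by norm_num)) (by norm_num) P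
  rw [show H62.selfCentralIndices (2 ^ 3 * 3 ^ 3 * 7) 7 = {6} by decide +kernel,
    Finset.mem_singleton] at he'
  subst he'
  obtain ⟨g, hgP, hg1, hgo⟩ := H65.exists_sylow_generator P hP
  obtain ⟨t, htN, ht⟩ := H65.exists_involution_of_even _ (by rw [hN]; decide)
  have hti : ∀ w ∈ (P : Subgroup G), t * w * t⁻¹ = w⁻¹ := fun w hw =>
    H62.involution_inverts hP hC (by norm_num) ht htN hw
  set H := normalizer ((P : Subgroup G) : Set G) with hHdef
  have hHt := H62.normalizer_sylow_ne_top hG (by rw [h]; norm_num) P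
  have hHi : H.index = 36 := by
    have := H.card_mul_index
    rw [hN, h] at this
    omega
  set c := Nat.card (centralizer ({t} : Set G)) with hc
  -- the involution centraliser has order 24
  have hc24 : c = 24 := by
    have hclass : Nat.card {a : G // IsConj t a ∧ a ∈ H} = 7 := by
      rw [← hP]
      refine Nat.card_congr
        { toFun := fun a => ⟨a.1 * t⁻¹, ?_⟩
          invFun := fun w => ⟨w.1 * t, ?_, ?_⟩
          left_inv := fun a => Subtype.ext (inv_mul_cancel_right _ _)
          right_inv := fun w => Subtype.ext (mul_inv_cancel_right _ _) }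
      · obtain ⟨b, hb⟩ := isConj_iff.1 a.2.1
        have hao : orderOf (a.1 : G) = 2 := by rw [← hb, ← MulAut.conj_apply, MulEquiv.orderOf_eq, ht]
        rw [← hC, mem_centralizer_iff]
        intro w hw
        have e2 := hti w⁻¹ (inv_mem hw)
        rw [inv_inv] at e2
        have e3 : t⁻¹ * w * t = w⁻¹ := by
          conv_lhs => rw [← e2]
          group
        have e4 := H62.involution_inverts hP hC (by norm_num) hao a.2.2 (inv_mem hw)
        rw [inv_inv] at e4
        calc w * (a.1 * t⁻¹) = (a.1 * w⁻¹ * a.1⁻¹) * (a.1 * t⁻¹) := by rw [e4]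
          _ = a.1 * (t⁻¹ * w * t) * t⁻¹ := by rw [e3]; group
          _ = a.1 * t⁻¹ * w := by group
      · obtain ⟨q, -, hq⟩ := H62.exists_half hP (by norm_num) hti w.2
        exact isConj_iff.2 ⟨q, hq⟩
      · exact mul_mem (le_normalizer w.2) htN
    have hF := H62.card_fixedBy_mul_card_class H t
    rw [hclass, hHi] at hF
    have hK := H65.card_class_mul (G := G) t
    rw [h, ← hc] at hK
    set F := Nat.card (MulAction.fixedBy (G ⧸ H) t) with hFdef
    set K := Nat.card {a : G // IsConj t a}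
    have hF6 : F ≤ 6 := by
      set o : G ⧸ H := ((1 : G) : G ⧸ H) with ho
      have hfx := H62.card_fixedBy_normalizer_eq_one P hP g hgo
      have hgo' : g • o = o := by
        rw [ho, MulAction.Quotient.smul_mk, QuotientGroup.eq, smul_eq_mul, mul_one, mul_one, inv_mem_iff]
        exact le_normalizer hgP
      have hto : t • o = o := by
        rw [ho, MulAction.Quotient.smul_mk, QuotientGroup.eq, smul_eq_mul, mul_one, mul_one, inv_mem_iff]
        exact htN
      have honly : ∀ (w : G), w ∈ (P : Subgroup G) → w ≠ 1 → ∀ α : G ⧸ H, w • α = α → α = o := by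
        intro w hw hw1 α hα
        have hwo : orderOf w = 7 := orderOf_eq_prime (H62.pow_card_of_mem hP hw) hw1
        have hfw := H62.card_fixedBy_normalizer_eq_one P hP w hwo
        have hwo' : w • o = o := by
          rw [ho, MulAction.Quotient.smul_mk, QuotientGroup.eq, smul_eq_mul, mul_one, mul_one,
            inv_mem_iff]
          exact le_normalizer hw
        exact congrArg Subtype.val ((Nat.card_eq_one_iff_unique.1 hfw).1.elim
          (⟨α, hα⟩ : MulAction.fixedBy (G ⧸ H) w) ⟨o, hwo'⟩)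
      let T := {α : MulAction.fixedBy (G ⧸ H) t // (α : G ⧸ H) ≠ o}
      let f : T × (P : Subgroup G) → {α : G ⧸ H // α ≠ o} := fun q =>
        ⟨(q.2 : G) • (q.1.1 : G ⧸ H), fun hh => q.1.2 (by
          have : (q.2 : G)⁻¹ • o = o := by
            rw [ho, MulAction.Quotient.smul_mk, QuotientGroup.eq, smul_eq_mul, mul_one, mul_one,
              inv_mem_iff]
            exact le_normalizer (inv_mem q.2.2)
          exact (eq_inv_smul_iff.2 hh).trans this)⟩
      have hf : Function.Injective f := by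
        rintro ⟨a, x⟩ ⟨b, y⟩ hab
        have e : (x : G) • (a.1 : G ⧸ H) = (y : G) • (b.1 : G ⧸ H) := congrArg Subtype.val hab
        set w : G := (y : G)⁻¹ * x with hwdef
        have hwP : w ∈ (P : Subgroup G) := mul_mem (inv_mem y.2) x.2
        have ew : w • (a.1 : G ⧸ H) = b.1 := by rw [hwdef, mul_smul, e, inv_smul_smul]
        have ha : t • (a.1 : G ⧸ H) = a.1 := a.1.2
        have hb : t • (b.1 : G ⧸ H) = b.1 := b.1.2
        have hw1 : w = 1 := by
          by_contra hne
          have h2 : w⁻¹ • (a.1 : G ⧸ H) = b.1 := by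
            rw [← hti w hwP, mul_smul, mul_smul]
            have hta : t⁻¹ • (a.1 : G ⧸ H) = a.1 := by rw [inv_smul_eq_iff, ha]
            rw [hta, ew, hb]
          have h3 : (w * w) • (a.1 : G ⧸ H) = a.1 := by
            rw [mul_smul, ew, ← h2, smul_inv_smul]
          have hne2 : w * w ≠ 1 := fun h' => by
            have := orderOf_dvd_of_pow_eq_one (show w ^ 2 = 1 by rw [pow_two, h'])
            rw [orderOf_eq_prime (H62.pow_card_of_mem hP hwP) hne] at this
            norm_num at this
          exact a.2 (honly _ (mul_mem hwP hwP) hne2 _ h3)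
        have hxy : x = y := Subtype.ext (inv_mul_eq_one.1 hw1).symm
        subst hxy
        exact Prod.ext (Subtype.ext (Subtype.ext (MulAction.injective (x : G) e))) rfl
      have hle := Nat.card_le_card_of_injective f hf
      rw [Nat.card_prod, hP] at hle
      have h35 : Nat.card {α : G ⧸ H // α ≠ o} = 35 := by
        have h1 := Nat.card_congr (Equiv.sumCompl (fun α : G ⧸ H => α = o))
        rw [Nat.card_sum, Nat.card_unique, ← Subgroup.index, hHi] at h1
        simp only [ne_eq]
        omega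
      have hT : Nat.card T + 1 = F := by
        have h1 := Nat.card_congr (Equiv.sumCompl (fun α : MulAction.fixedBy (G ⧸ H) t => (α : G ⧸ H) = o))
        rw [Nat.card_sum] at h1
        have : Nat.card {α : MulAction.fixedBy (G ⧸ H) t // (α : G ⧸ H) = o} = 1 :=
          Nat.card_eq_one_iff_unique.2 ⟨⟨fun a b => Subtype.ext (Subtype.ext (a.2.trans b.2.symm))⟩,
            ⟨⟨⟨o, hto⟩, rfl⟩⟩⟩
        rw [this] at h1
        show Nat.card {α : MulAction.fixedBy (G ⧸ H) t // (α : G ⧸ H) ≠ o} + 1 = F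
        simp only [ne_eq]
        omega
      omega
    obtain ⟨-, h4⟩ := H65.involution_fixedBy hG H hHt ht
    rw [hHi, ← hFdef] at h4
    have hF4 : F = 4 := by
      rcases (show F = 0 ∨ F = 4 by omega) with h0 | h0
      · rw [h0, zero_mul] at hF; omega
      · exact h0
    rw [hF4] at hF
    have hK63 : K = 63 := by omega
    rw [hK63] at hK
    omega
  -- the columns of `g` and `t`
  have he' := fun χ : IrrCharacter G => irr_int_of_full hP hC hN hgP hg1 χ
  choose e he he7 using he'
  have hv' := fun χ : IrrCharacter G => H65.irr_involution_congr hna χ ht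
  choose v hv hv4 using hv'
  obtain ⟨d, hd⟩ : ∃ d : IrrCharacter G → ℕ, ∀ χ : IrrCharacter G, H12.degree (χ : G → ℂ) = d χ :=
    ⟨_, fun _ => rfl⟩
  set one := H12.oneIrr G with hone
  have hd1 : d one = 1 := by rw [← hd, hone]; simp [H12.degree, H12.oneIrr_apply]
  have he1 : e one = 1 := by
    have := he one
    rw [hone, H12.oneIrr_apply] at this
    exact_mod_cast this.symm
  have hv1 : v one = 1 := by
    have := hv one
    rw [hone, H12.oneIrr_apply] at this
    exact_mod_cast this.symm
  have hcolg : ∑ χ : IrrCharacter G, e χ ^ 2 = 7 := by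
    have := H12.column_orthogonality g g
    rw [if_pos (IsConj.refl g), H62.centralizer_eq_of_mem hP hC hgP hg1, hP] at this
    simp only [he, map_intCast, ← pow_two] at this
    exact_mod_cast this
  have hcolt : ∑ χ : IrrCharacter G, v χ ^ 2 = (24 : ℤ) := by
    have := H12.column_orthogonality t t
    rw [if_pos (IsConj.refl t), ← hc, hc24] at this
    simp only [hv, map_intCast, ← pow_two] at this
    exact_mod_cast this
  have hreg : ∑ χ : IrrCharacter G, (d χ : ℤ) * e χ = 0 := by
    have := H12.regular_eq_sum g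
    rw [if_neg hg1] at this
    simp only [he, H12.irr_apply_one, hd] at this
    exact_mod_cast this
  have hgt : ¬ IsConj g t := fun hh => by
    obtain ⟨b, hb⟩ := isConj_iff.1 hh
    rw [← hb, ← MulAut.conj_apply, MulEquiv.orderOf_eq, hgo] at ht
    omega
  have hev : ∑ χ : IrrCharacter G, e χ * v χ = 0 := by
    have := H12.column_orthogonality g t
    rw [if_neg hgt] at this
    simp only [he, hv, map_intCast] at this
    exact_mod_cast this
  have hclass : ∑ χ : IrrCharacter G, (e χ : ℂ) * (v χ : ℂ) * (v χ : ℂ) / (d χ : ℂ) = 8 / 3 := by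
    have h1 := H62.card_product_class_eq_sum g t t
    rw [H62.card_product_class hP hC (by norm_num) ht hti hgP hg1, ← hc, hc24, h] at h1
    simp only [he, hv, map_intCast, H12.irr_apply_one, hd] at h1
    push_cast at h1
    linear_combination -(1 / 1512 : ℂ) * h1
  set S := (Finset.univ.erase one).filter (fun χ => e χ ≠ 0) with hS
  have hsplit : ∀ f : IrrCharacter G → ℤ, (∀ χ, e χ = 0 → f χ = 0) →
      f one + ∑ χ ∈ S, f χ = ∑ χ, f χ := fun f hf => by
    rw [hS, Finset.sum_filter_of_ne (p := fun χ => e χ ≠ 0) (f := f) (fun χ _ hne h0 => hne (hf χ h0)),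
      Finset.add_sum_erase _ _ (Finset.mem_univ one)]
  have hS2 : ∑ χ ∈ S, e χ * e χ = 6 := by
    have := hsplit (fun χ => e χ ^ 2) (fun χ h0 => by simp [h0])
    rw [hcolg] at this
    simp only [he1, pow_two] at this
    omega
  have heven : Even (Nat.card G) := by rw [h]; decide
  have hSvv : ∑ χ ∈ S, v χ * v χ ≤ 23 := by
    have h1 : ∑ χ ∈ Finset.univ.erase one, v χ ^ 2 = 23 := by
      have := Finset.add_sum_erase Finset.univ (fun χ => v χ ^ 2) (Finset.mem_univ one)
      rw [hcolt] at this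
      simp only [hv1] at this
      omega
    rw [← h1]
    simp only [← pow_two]
    exact Finset.sum_le_sum_of_subset_of_nonneg (Finset.filter_subset _ _) fun χ _ _ => sq_nonneg _
  have hmem : ∀ χ ∈ S, ((d χ : ℤ), e χ, v χ) ∈ opts1512 := by
    intro χ hχ
    have hne : e χ ≠ 0 := (Finset.mem_filter.1 hχ).2
    have hle : e χ * e χ ≤ 6 := hS2 ▸ Finset.single_le_sum (fun y _ => mul_self_nonneg (e y)) hχ
    have hvle : v χ * v χ ≤ 23 := le_trans
      (Finset.single_le_sum (f := fun y => v y * v y) (fun y _ => mul_self_nonneg (v y)) hχ) hSvv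
    obtain ⟨hd2, hdn, hdsq⟩ := H62.degree_bounds hG heven (χ := χ)
      (Finset.mem_erase.1 (Finset.mem_filter.1 hχ).1).1
    rw [hd] at hd2 hdn hdsq
    rw [h] at hdn hdsq
    have h39 : d χ < 39 := by nlinarith
    have b1 : -2 ≤ e χ ∧ e χ ≤ 2 := ⟨by nlinarith, by nlinarith⟩
    have b2 : -4 ≤ v χ ∧ v χ ≤ 4 := ⟨by nlinarith, by nlinarith⟩
    refine mem_opts1512 (d χ) (List.mem_range.2 h39) hdn hd2 _ ?_ (hd χ ▸ he7 χ) _ ?_ (hd χ ▸ hv4 χ)
    · simp only [List.mem_cons, List.not_mem_nil, or_false]; omega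
    · simp only [List.mem_cons, List.not_mem_nil, or_false]; omega
  refine false_of_search (fun χ => ((d χ : ℤ), e χ, v χ)) opts1512 S 0
    (fun χ hχ => ⟨hmem χ hχ, (Finset.mem_filter.1 hχ).2⟩) le_rfl search1512_eq ⟨?_, ?_, ?_, ?_, ?_⟩
  all_goals simp only [zero_add, Prod.fst_sum, Prod.snd_sum, contrib]
  · exact hS2
  · have := hsplit (fun χ => (d χ : ℤ) * e χ) (fun χ h0 => by simp [h0])
    rw [hreg] at this
    simp only [he1, hd1] at this
    omega
  · have := hsplit (fun χ => e χ * v χ) (fun χ h0 => by simp [h0])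
    rw [hev] at this
    simp only [he1, hv1] at this
    omega
  · exact hSvv
  · have hs : (e one : ℂ) * (v one : ℂ) * (v one : ℂ) / (d one : ℂ) +
        ∑ χ ∈ S, (e χ : ℂ) * (v χ : ℂ) * (v χ : ℂ) / (d χ : ℂ) = 8 / 3 := by
      rw [hS, Finset.sum_filter_of_ne (p := fun χ => e χ ≠ 0)
        (f := fun χ => (e χ : ℂ) * (v χ : ℂ) * (v χ : ℂ) / (d χ : ℂ)) (fun χ _ hne h0 => hne (by simp [h0])),
        Finset.add_sum_erase _ (fun χ => (e χ : ℂ) * (v χ : ℂ) * (v χ : ℂ) / (d χ : ℂ))
          (Finset.mem_univ one), hclass]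
    rw [he1, hv1, hd1] at hs
    apply Int.cast_injective (α := ℂ)
    rw [Int.cast_sum]
    have hterm : ∀ χ ∈ S, ((216 / (d χ : ℤ) * e χ * v χ * v χ : ℤ) : ℂ) =
        216 * ((e χ : ℂ) * (v χ : ℂ) * (v χ : ℂ) / (d χ : ℂ)) := by
      intro χ hχ
      have h216 := opts1512_dvd _ (hmem χ hχ)
      simp only at h216
      have hc : ((d χ : ℂ)) * ((216 / (d χ : ℤ) : ℤ) : ℂ) = 216 := by exact_mod_cast h216
      have hdpos : (d χ : ℂ) ≠ 0 := fun hz => by rw [hz, zero_mul] at hc; norm_num at hc
      push_cast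
      rw [← hc]
      field_simp
    rw [Finset.sum_congr rfl hterm, ← Finset.mul_sum]
    push_cast at hs ⊢
    linear_combination (216 : ℂ) * hs

end SmallOrder
end H4
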