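/-
No simple group has order 1680.
-/
import Cfsg.Agent.H4.SmallOrder.Hard

set_option autoImplicit false
set_option linter.unusedSectionVars false

namespace H4
namespace SmallOrder

open Subgroup H32.ExactSieve H62.SmallRange

universe u

variable {G : Type u} [Group G] [Finite G]

/-- The singular elements of an independent family and a set avoiding them fit into the group. -/
theorem weight_add_le (k c : ℕ → ℕ) (S : List ℕ) (hnd : S.Nodup)
    (hf : ∀ p ∈ S, Facts G p (k p) (c p))
    (hind : indep (S.map fun p => (p, k p, c p)) = true) :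
    weight (S.map fun p => (p, k p, c p)) +
      Nat.card {x : G // ∀ p ∈ S, ¬ p ∣ orderOf x} ≤ Nat.card G := by
  classical
  have := Fintype.ofFinite G
  let U : ℕ → Finset G := fun p => Finset.univ.filter fun x =>
    ∃ P : Sylow p G, x ∈ singularSet p P
  let V : Finset G := Finset.univ.filter fun x => ∀ p ∈ S, ¬ p ∣ orderOf x
  have hU : ∀ p ∈ S, k p * (c p - c p / p) ≤ (U p).card := by
    intro p hp
    have := Fact.mk (hf p hp).prime
    have := Fintype.ofFinite (Sylow p G)
    let T : Sylow p G → Finset G := fun P => Finset.univ.filter fun x => x ∈ singularSet p P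
    have hsub : (Finset.univ.biUnion T) ⊆ U p := by
      intro x hx
      simp only [Finset.mem_biUnion, Finset.mem_univ, true_and, T, Finset.mem_filter] at hx
      simpa [U] using hx
    refine le_trans ?_ (Finset.card_le_card hsub)
    rw [Finset.card_biUnion]
    · refine le_trans (le_of_eq ?_) (Finset.sum_le_sum (f := fun _ => c p - c p / p)
        (fun P _ => ?_))
      · rw [Finset.sum_const, smul_eq_mul, Finset.card_univ, ← Nat.card_eq_fintype_card,
          (hf p hp).card_sylow]
      · have := card_singular P ((hf p hp).card_P P)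
        rw [(hf p hp).card_C P] at this
        refine this.trans (le_of_eq ?_)
        rw [Nat.card_eq_fintype_card, Fintype.card_subtype]
    · intro P _ P' _ hne
      rw [Function.onFun, Finset.disjoint_left]
      intro x hx hx'
      simp only [T, Finset.mem_filter, Finset.mem_univ, true_and] at hx hx'
      exact hne (singular_unique ((hf p hp).card_P P) ((hf p hp).card_P P') hx hx')
  have hdis : (S.toFinset : Set ℕ).PairwiseDisjoint U := by
    intro p hp q hq hpq
    rw [List.coe_toFinset] at hp hq
    rw [Function.onFun, Finset.disjoint_left]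
    intro x hx hx'
    simp only [U, Finset.mem_filter, Finset.mem_univ, true_and] at hx hx'
    obtain ⟨P, hP⟩ := hx
    obtain ⟨Q, hQ⟩ := hx'
    have := Fact.mk (hf p hp).prime
    have hdvd := mem_singular_of_dvd hP hQ.2
    rw [(hf p hp).card_C P] at hdvd
    rw [indep, List.all_eq_true] at hind
    have h1 := hind _ (List.mem_map.mpr ⟨p, hp, rfl⟩)
    rw [List.all_eq_true] at h1
    have h2 := h1 _ (List.mem_map.mpr ⟨q, hq, rfl⟩)
    simp [hpq, Nat.mod_eq_zero_of_dvd hdvd] at h2
  have hdV : Disjoint (S.toFinset.biUnion U) V := by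
    rw [Finset.disjoint_left]
    intro x hx hx'
    simp only [Finset.mem_biUnion, U, V, Finset.mem_filter, Finset.mem_univ, true_and,
      List.mem_toFinset] at hx hx'
    obtain ⟨p, hp, P, hP⟩ := hx
    exact hx' p hp hP.2
  have hV : Nat.card {x : G // ∀ p ∈ S, ¬ p ∣ orderOf x} = V.card := by
    rw [Nat.card_eq_fintype_card, Fintype.card_subtype]
  have hle := Finset.card_le_univ (S.toFinset.biUnion U ∪ V)
  rw [Finset.card_union_of_disjoint hdV, Finset.card_biUnion hdis, ← Nat.card_eq_fintype_card] at hle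
  rw [hV]
  refine le_trans (Nat.add_le_add_right ?_ _) hle
  rw [weight, List.map_map, ← List.sum_toFinset _ hnd]
  exact Finset.sum_le_sum fun p hp => hU p (List.mem_toFinset.mp hp)

variable [IsSimpleGroup G]

theorem card_ne_1680 : Nat.card G ≠ 1680 := by
  intro hn
  classical
  have hG : ¬ IsMulCommutative G := H62.not_comm_of_not_prime (hn ▸ by norm_num)
  obtain ⟨hD, acc, hacc, hf⟩ := exists_sol' hG hn [2, 2, 2, 2, 3, 5, 7] [7, 5, 3] (by decide)
    (by decide) (by decide) (by decide)
  have key : ∀ acc ∈ sols (divList [2, 2, 2, 2, 3, 5, 7]).dedup 1680 [7, 5, 3] [],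
      acc.any (badCand' (divList [2, 2, 2, 2, 3, 5, 7]).dedup [2, 3, 5, 7] 1680) = true ∨
        acc = [(3, 70, 12), (5, 21, 20), (7, 120, 7)] ∨
        acc = [(3, 280, 3), (5, 21, 20), (7, 120, 7)] := by decide +kernel
  rcases key acc hacc with hb | hacc'
  · obtain ⟨t, ht, hb⟩ := List.any_eq_true.1 hb
    exact false_of_badCand hG hn (by norm_num) (by decide) hD (hf t ht)
      (ne_two_of_mem_sols (by decide) hacc t ht) hb
  obtain ⟨k3, c3, h3, hk3⟩ : ∃ k3 c3, acc = [(3, k3, c3), (5, 21, 20), (7, 120, 7)] ∧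
      ((k3 = 70 ∧ c3 = 12) ∨ (k3 = 280 ∧ c3 = 3)) := by
    rcases hacc' with rfl | rfl
    · exact ⟨70, 12, rfl, Or.inl ⟨rfl, rfl⟩⟩
    · exact ⟨280, 3, rfl, Or.inr ⟨rfl, rfl⟩⟩
  subst h3
  have hf3 : Facts G 3 k3 c3 := hf (3, k3, c3) (by simp)
  have hf5 : Facts G 5 21 20 := hf (5, 21, 20) (by simp)
  have hf7 : Facts G 7 120 7 := hf (7, 120, 7) (by simp)
  haveI : Fact (Nat.Prime 5) := ⟨by norm_num⟩
  haveI := Fact.mk Nat.prime_two
  let k : ℕ → ℕ := fun p => if p = 3 then k3 else if p = 5 then 21 else 120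
  let c : ℕ → ℕ := fun p => if p = 3 then c3 else if p = 5 then 20 else 7
  have hU := weight_add_le k c [3, 5, 7] (by decide) (fun p hp => by
    fin_cases hp <;> simp [k, c] <;> assumption) (by
    rcases hk3 with ⟨-, rfl⟩ | ⟨-, rfl⟩ <;> simp [indep, k, c])
  have hU64 : Nat.card {x : G // ∀ p ∈ [3, 5, 7], ¬ p ∣ orderOf x} ≤ 64 := by
    rw [hn] at hU
    rcases hk3 with ⟨rfl, rfl⟩ | ⟨rfl, rfl⟩ <;> simp [weight, k, c] at hU ⊢ <;> omega
  obtain ⟨P⟩ := (inferInstance : Nonempty (Sylow 5 G))
  have hP := hf5.card_P P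
  set N := normalizer ((P : Subgroup G) : Set G) with hN
  set C := centralizer ((P : Subgroup G) : Set G) with hC
  have hNc : Nat.card N = 80 := by
    have := H62.card_normalizer_mul P
    rw [hf5.card_sylow, hn, ← hN] at this
    omega
  have hCc : Nat.card C = 20 := hf5.card_C P
  have hCN : C ≤ N := centralizer_le_normalizer _
  obtain ⟨T, hT⟩ := Sylow.exists_subgroup_card_pow_prime (G := C) 2 (n := 2)
    (show 2 ^ 2 ∣ Nat.card C by rw [hCc]; norm_num)
  have hmem : ∀ y : N, (y : G) ∉ C ∨ (y : G) ∈ T.map C.subtype →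
      ∀ p ∈ [3, 5, 7], ¬ p ∣ orderOf (y : G) := by
    intro y hy p hp hpd
    have h80 : orderOf (y : G) ∣ 80 := by
      rw [← hNc, Subgroup.orderOf_coe]; exact orderOf_dvd_natCard y
    fin_cases hp
    · exact absurd (hpd.trans h80) (by norm_num)
    · rcases hy with hy | hy
      · -- an element of order five in `N` lies in `P`
        set w := (y : G) ^ (orderOf (y : G) / 5)
        have hw : orderOf w = 5 := orderOf_pow_orderOf_div (orderOf_pos _).ne' hpd
        have hwN : w ∈ N := pow_mem y.2 _
        have hsup : IsPGroup 5 ((zpowers w) ⊔ (P : Subgroup G) : Subgroup G) :=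
          (IsPGroup.of_card (p := 5) (n := 1) (by rw [Nat.card_zpowers, hw, pow_one])
            : IsPGroup 5 (zpowers w)).to_sup_of_normal_right' P.isPGroup' (zpowers_le.2 hwN)
        have hle : zpowers w ≤ (P : Subgroup G) :=
          le_sup_left.trans (P.is_maximal' hsup le_sup_right).le
        have heq : zpowers w = (P : Subgroup G) :=
          eq_of_le_of_card_ge hle (by rw [hP, Nat.card_zpowers, hw])
        refine hy ?_
        rw [hC, ← heq, mem_centralizer_iff]
        intro v hv
        obtain ⟨j, rfl⟩ := mem_zpowers_iff.1 hv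
        exact (((Commute.refl (y : G)).pow_right _).symm.zpow_left j).eq
      · obtain ⟨t, ht, hty⟩ := hy
        have h4 : orderOf (y : G) ∣ 4 := by
          have := orderOf_dvd_natCard (⟨t, ht⟩ : T)
          rw [hT] at this
          rw [← hty, Subgroup.coe_subtype, Subgroup.orderOf_coe]
          simpa using this
        exact absurd (hpd.trans h4) (by norm_num)
    · exact absurd (hpd.trans h80) (by norm_num)
  set B : Subgroup N := C.subgroupOf N with hB
  set T' : Subgroup N := (T.map C.subtype).subgroupOf N with hT'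
  have hBc : Nat.card B = 20 := by rw [hB, Nat.card_congr (subgroupOfEquivOfLe hCN).toEquiv, hCc]
  have hTC : T.map C.subtype ≤ C := map_subtype_le _
  have hTc : Nat.card T' = 4 := by
    rw [hT', Nat.card_congr (subgroupOfEquivOfLe (hTC.trans hCN)).toEquiv,
      card_map_of_injective C.subtype_injective, hT]
    norm_num
  let f : {y : N // y ∉ B} ⊕ T' → {x : G // ∀ p ∈ [3, 5, 7], ¬ p ∣ orderOf x} := fun o =>
    o.elim (fun y => ⟨(y.1 : G), hmem y.1 (Or.inl y.2)⟩) fun y => ⟨(y.1 : G), hmem y.1 (Or.inr y.2)⟩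
  have hfi : Function.Injective f := by
    rintro (a | a) (b | b) h
    · exact congrArg Sum.inl (Subtype.ext (Subtype.ext (congrArg (fun z => z.1) h)))
    · exfalso
      have : a.1 = b.1 := Subtype.ext (congrArg (fun z => z.1) h)
      exact a.2 (this ▸ hTC b.2)
    · exfalso
      have : a.1 = b.1 := Subtype.ext (congrArg (fun z => z.1) h)
      exact b.2 (this ▸ hTC a.2)
    · exact congrArg Sum.inr (Subtype.ext (Subtype.ext (congrArg (fun z => z.1) h)))
  have h60 : Nat.card {y : N // y ∉ B} = 60 := by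
    have h := Nat.card_congr (Equiv.sumCompl (fun y : N => y ∈ B))
    rw [Nat.card_sum, hNc] at h
    have : Nat.card {y : N // y ∈ B} = 20 := hBc
    omega
  have hsurj := ((Nat.bijective_iff_injective_and_card f).2 ⟨hfi, le_antisymm
    (Nat.card_le_card_of_injective f hfi) (by rw [Nat.card_sum, h60, hTc]; exact hU64)⟩).2
  have hallN : ∀ x : G, (∀ p ∈ [3, 5, 7], ¬ p ∣ orderOf x) → x ∈ N := by
    intro x hx
    obtain ⟨o, ho⟩ := hsurj ⟨x, hx⟩
    have hox := congrArg Subtype.val ho
    rcases o with y | y <;> exact (show (y.1 : G) = x from hox) ▸ y.1.2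
  obtain ⟨u, hu⟩ := exists_prime_orderOf_dvd_card' (G := G) 2 (by rw [hn]; norm_num)
  have hnor : (normalClosure {u} : Subgroup G) ≤ N := by
    rw [normalClosure, closure_le]
    intro x hx
    rw [Group.mem_conjugatesOfSet_iff] at hx
    obtain ⟨a, ha, hax⟩ := hx
    rw [Set.mem_singleton_iff] at ha
    subst ha
    obtain ⟨g, hg⟩ := isConj_iff.1 hax
    refine hallN x ?_
    rw [← hg, show orderOf (g * a * g⁻¹) = 2 from by
      rw [← MulAut.conj_apply, MulEquiv.orderOf_eq, hu]]
    decide
  rcases (normalClosure_normal (s := ({u} : Set G))).eq_bot_or_eq_top with h | h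
  · have := subset_normalClosure (Set.mem_singleton u)
    rw [h, SetLike.mem_coe, mem_bot] at this
    rw [this, orderOf_one] at hu
    omega
  · exact H62.normalizer_sylow_ne_top hG (hn ▸ by norm_num) P (top_le_iff.1 (h ▸ hnor))

end SmallOrder
end H4
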