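/-
No simple group has order 2160.
-/
import Cfsg.Agent.H62.CyclicBlock
import Cfsg.Agent.H62.SelfCentralNumber
import Cfsg.Agent.H62.InvertCount
import Cfsg.Agent.H62.Order5472
import Cfsg.Agent.H65.Order720

set_option autoImplicit false
set_option linter.unusedSectionVars false

open Cfsg Subgroup
open scoped ComplexConjugate

namespace H4
namespace SmallOrder

theorem degree_pairs2160 : ∀ f ∈ List.range 47, f ∣ 2160 → 2 < f → ∀ d ∈ List.range 47, d ∣ 2160 →
    2 < d → ∀ b ∈ ([-1, 1] : List ℤ), ∀ γ ∈ ([-1, 1] : List ℤ), (5 : ℤ) ∣ (f : ℤ) + b →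
    b * f + γ * d = 1 → b = 1 ∧ γ = -1 ∧ ((f = 4 ∧ d = 3) ∨ (f = 9 ∧ d = 8)) := by
  decide +kernel

theorem sq_ne2160 : ∀ n ∈ ([864, 384, 96, 1536] : List ℕ), ∀ c ∈ List.range 40, c * c ≠ n := by
  decide +kernel

universe u

variable {G : Type u} [Group G]

theorem card_ne_2160 [Finite G] [IsSimpleGroup G] : Nat.card G ≠ 2160 := by
  intro h
  classical
  have := Fintype.ofFinite G
  haveI : Fact (Nat.Prime 5) := ⟨by norm_num⟩
  have hG : ¬ IsMulCommutative G := H62.not_comm_of_not_prime (by rw [h]; norm_num)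
  have hna : Subgroup.center G ≠ ⊤ := fun hc =>
    hG ⟨⟨fun a b => (Subgroup.mem_center_iff.1 (hc ▸ Subgroup.mem_top b) a)⟩⟩
  obtain ⟨P⟩ := (inferInstance : Nonempty (Sylow 5 G))
  obtain ⟨hP, hC, e, he, hN⟩ := H62.normalizer_threePrimes (p := 2) (q := 3) (r := 5) (a := 4)
    (b := 3) Nat.prime_two Nat.prime_three (by decide) (by decide) (by decide)
    (h.trans (by norm_num)) (by norm_num) P
  rw [show H62.selfCentralIndices (2 ^ 4 * 3 ^ 3 * 5) 5 = {2} by decide +kernel,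
    Finset.mem_singleton] at he
  subst he
  obtain ⟨T, η, b, bη, δ, k, hone, hδ, hk, hT, hnorm, hrel, -, hsum⟩ :=
    H62.exists_block hP hC (e := 2) (by rw [hN]) (by norm_num)
  obtain rfl : k = 2 := by omega
  have hnn : ∀ χ ∈ T, 0 ≤ b χ ^ 2 := fun χ _ => sq_nonneg _
  have hRnn := Finset.sum_nonneg hnn
  have hδ2 : δ * δ = 1 := by rcases hδ with rfl | rfl <;> norm_num
  -- the shape of the block
  have hR : ∑ χ ∈ T, b χ ^ 2 = 1 ∧ (2 * bη + δ = 1 ∨ 2 * bη + δ = -1) := by
    push_cast at hnorm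
    have hb : -1 ≤ bη ∧ bη ≤ 1 := ⟨by nlinarith [sq_nonneg (bη + δ)], by nlinarith [sq_nonneg (bη + δ)]⟩
    rcases (show bη = -1 ∨ bη = 0 ∨ bη = 1 by omega) with rfl | rfl | rfl <;>
      rcases hδ with rfl | rfl <;> norm_num at hnorm ⊢ <;> omega
  obtain ⟨hR, hγ⟩ := hR
  obtain ⟨χ, hχT⟩ : T.Nonempty := by
    by_contra hne
    rw [Finset.not_nonempty_iff_eq_empty.1 hne, Finset.sum_empty] at hR
    omega
  have hTeq : T = {χ} := by
    refine Finset.eq_singleton_iff_unique_mem.2 ⟨hχT, fun ψ hψ => ?_⟩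
    by_contra hne
    have := Finset.add_le_sum hnn hψ hχT hne
    rw [hR] at this
    linarith [(hT ψ hψ).1, (hT χ hχT).1]
  have hb1 : b χ = -1 ∨ b χ = 1 := by
    rw [hTeq, Finset.sum_singleton] at hR
    have : (b χ - 1) * (b χ + 1) = 0 := by linear_combination hR
    rcases mul_eq_zero.1 this with h' | h' <;> omega
  have heven : Even (Nat.card G) := by rw [h]; decide
  obtain ⟨df, hdf⟩ : ∃ m, H12.degree (χ : G → ℂ) = m := ⟨_, rfl⟩
  obtain ⟨dd, hdd⟩ : ∃ m, H12.degree (η : G → ℂ) = m := ⟨_, rfl⟩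
  set γ : ℤ := 2 * bη + δ with hγdef
  have hrel' : ∀ g : G, ¬ 5 ∣ orderOf g →
      (b χ : ℂ) * (χ : G → ℂ) g + (γ : ℂ) * (η : G → ℂ) g = 1 := by
    intro g hg
    have := hrel g hg
    rw [hTeq, Finset.sum_singleton] at this
    exact_mod_cast this
  have hdeg : b χ * (df : ℤ) + γ * (dd : ℤ) = 1 := by
    have := hrel' 1 (by rw [orderOf_one]; norm_num)
    simp only [H12.irr_apply_one, hdf, hdd] at this
    exact_mod_cast this
  obtain ⟨hf2, hfn, hfsq⟩ := H62.degree_bounds hG heven (χ := χ) (fun hh => hone (hh ▸ hχT))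
  have hηne : η ≠ H12.oneIrr G := by
    intro hh
    have hdd1 : dd = 1 := by rw [← hdd, hh]; simp [H12.degree, H12.oneIrr_apply]
    rw [hdd1] at hdeg
    rw [hdf, h] at hfn
    rw [hdf] at hf2
    rcases hb1 with hb | hb <;> rw [hb] at hdeg <;> omega
  obtain ⟨hd2, hdn, hdsq⟩ := H62.degree_bounds hG heven (χ := η) hηne
  rw [hdf] at hf2 hfn hfsq
  rw [hdd] at hd2 hdn hdsq
  rw [h] at hfn hfsq hdn hdsq
  have hf47 : df < 47 := by nlinarith
  have hd47 : dd < 47 := by nlinarith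
  obtain ⟨hbχ, hγ1, hpair⟩ := degree_pairs2160 df (List.mem_range.2 hf47) hfn hf2 dd
    (List.mem_range.2 hd47) hdn hd2 (b χ) (by simpa using hb1) γ (by simp; omega)
    (hdf ▸ (hT χ hχT).2) hdeg
  obtain ⟨g, hgP, hg1, hgo⟩ := H65.exists_sylow_generator P hP
  -- values at the involutions
  have hinv : ∀ z : G, orderOf z = 2 → ∃ v : ℤ, (χ : G → ℂ) z = v ∧ (η : G → ℂ) z = (v - 1 : ℤ) ∧
      (4 : ℤ) ∣ (df : ℤ) - v ∧ (4 : ℤ) ∣ (dd : ℤ) - (v - 1) ∧
      -(df : ℤ) ≤ v ∧ v < df ∧ -(dd : ℤ) ≤ v - 1 := by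
    intro z hz
    obtain ⟨v, hv, hv4⟩ := H65.irr_involution_congr hna χ hz
    obtain ⟨w, hw, hw4⟩ := H65.irr_involution_congr hna η hz
    have h1 := hrel' z (by rw [hz]; norm_num)
    rw [hbχ, hγ1, hv, hw] at h1
    have hwv : w = v - 1 := by
      have : ((v - w : ℤ) : ℂ) = ((1 : ℤ) : ℂ) := by push_cast at h1 ⊢; linear_combination h1
      have := Int.cast_injective this
      omega
    have hbd : ∀ (ψ : IrrCharacter G) (m : ℤ), (ψ : G → ℂ) z = m →
        |m| ≤ (H12.degree (ψ : G → ℂ) : ℤ) := fun ψ m hm => by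
      have h1 := H12.IsCharacter.norm_le (H12.isCharacter_irr ψ) z
      rw [hm, Complex.norm_intCast] at h1
      exact_mod_cast h1
    have h2 := abs_le.1 (hdf ▸ hbd χ v hv)
    have h3 := abs_le.1 (hdd ▸ hbd η w hw)
    have hne : v ≠ (df : ℤ) := by
      intro hvf
      refine hone ((H62.irr_eq_one_of_apply_eq_degree χ (g := z) (fun hz1 => ?_) ?_) ▸ hχT)
      · rw [hz1, orderOf_one] at hz; omega
      · rw [hv, hvf, hdf]; norm_num
    exact ⟨v, hv, hwv ▸ hw, hdf ▸ hv4, hdd ▸ hwv ▸ hw4, h2.1, lt_of_le_of_ne h2.2 hne,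
      hwv ▸ h3.1⟩
  obtain ⟨t, htN, ht⟩ := H65.exists_involution_of_even _ (by rw [hN]; decide)
  have hti : ∀ w ∈ (P : Subgroup G), t * w * t⁻¹ = w⁻¹ := fun w hw =>
    H62.involution_inverts hP hC (by norm_num) ht htN hw
  have hdf0 : (df : ℂ) ≠ 0 := by exact_mod_cast (show df ≠ 0 by omega)
  have hdd0 : (dd : ℂ) ≠ 0 := by exact_mod_cast (show dd ≠ 0 by omega)
  have hconst : ∀ z : G, orderOf z = 2 → ∀ v v' : ℤ, (χ : G → ℂ) t = v → (χ : G → ℂ) z = v' →
      (η : G → ℂ) t = (v - 1 : ℤ) → (η : G → ℂ) z = (v' - 1 : ℤ) →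
      (Nat.card {a : G // IsConj (g * (a * t * a⁻¹)) z} : ℂ) *
        (Nat.card (centralizer ({z} : Set G)) : ℂ) =
      2160 * (1 - (v : ℂ) * v' / df + ((v : ℂ) - 1) * ((v' : ℂ) - 1) / dd) := by
    intro z hz v v' e1 e2 e3 e4
    rw [H62.card_product_class_eq_sum g t z, h]
    have h1 := hsum g hgP hg1 (fun ψ => (ψ : G → ℂ) t * conj ((ψ : G → ℂ) z) / (ψ : G → ℂ) 1)
      (fun ψ ψ' hψ => by
        simp only [hψ t (by rw [ht]; norm_num), hψ z (by rw [hz]; norm_num),
          hψ 1 (by rw [orderOf_one]; norm_num)])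
    rw [hTeq, Finset.sum_singleton, hbχ] at h1
    push_cast at h1
    have hγc : 2 * (bη : ℂ) + (δ : ℂ) = -1 := by exact_mod_cast (hγdef ▸ hγ1 : 2 * bη + δ = -1)
    rw [hγc] at h1
    simp only [H12.oneIrr_apply, e1, e2, e3, e4, map_one, map_intCast, H12.irr_apply_one, hdf, hdd] at h1
    push_cast at h1 ⊢
    congr 1
    simp only [H12.irr_apply_one]
    refine (Finset.sum_congr rfl fun ψ _ => ?_).trans (h1.trans ?_) <;> ring
  obtain ⟨v, hv, hw, hv4, hw4, hvl, hvu, hwl⟩ := hinv t ht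
  set c := Nat.card (centralizer ({t} : Set G)) with hc
  have hcc := hconst t ht v v hv hv hw hw
  rw [H62.card_product_class hP hC (by norm_num) ht hti hgP hg1, ← hc] at hcc
  rcases hpair with ⟨rfl, rfl⟩ | ⟨rfl, rfl⟩
  · obtain rfl : v = 0 := by omega
    have hc24 : c = 24 := by
      have h1 : ((c * c : ℕ) : ℂ) = ((576 : ℕ) : ℂ) := by
        push_cast at hcc ⊢
        linear_combination (1 / 5 : ℂ) * hcc
      have h2 : c * c = 576 := by exact_mod_cast h1
      nlinarith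
    -- a central involution of a Sylow two-subgroup is conjugate to `t`
    haveI := Fact.mk Nat.prime_two
    obtain ⟨S⟩ := (inferInstance : Nonempty (Sylow 2 G))
    have hS : Nat.card (S : Subgroup G) = 16 := by
      rw [H62.card_sylow_coe (a := 4) (m := 135) (h.trans (by norm_num)) (by norm_num) S]; norm_num
    haveI : Nontrivial (S : Subgroup G) := Finite.one_lt_card_iff_nontrivial.1 (by rw [hS]; norm_num)
    haveI := S.isPGroup'.center_nontrivial
    obtain ⟨j, hj0, hj⟩ := (S.isPGroup'.to_subgroup (center (S : Subgroup G))).nontrivial_iff_card.1 ‹_›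
    obtain ⟨z, hz⟩ := exists_prime_orderOf_dvd_card' (G := center (S : Subgroup G)) 2
      (by rw [hj]; exact dvd_pow_self 2 hj0.ne')
    have hzo : orderOf ((z : (S : Subgroup G)) : G) = 2 := by
      rw [Subgroup.orderOf_coe, Subgroup.orderOf_coe, hz]
    obtain ⟨v', hv', hw', hv4', hw4', hvl', hvu', hwl'⟩ := hinv _ hzo
    obtain rfl : v' = 0 := by omega
    have hzc := hconst _ hzo 0 0 hv hv' hw hw'
    have hpos : Nat.card {a : G // IsConj (g * (a * t * a⁻¹)) ((z : (S : Subgroup G)) : G)} ≠ 0 := by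
      intro h0
      rw [h0] at hzc
      norm_num at hzc
    obtain ⟨⟨a, ha⟩⟩ := (Nat.card_pos_iff.1 (Nat.pos_of_ne_zero hpos)).1
    have hzz : ((z : (S : Subgroup G)) : G) * ((z : (S : Subgroup G)) : G) = 1 := by
      have := pow_orderOf_eq_one ((z : (S : Subgroup G)) : G)
      rwa [hzo, pow_two] at this
    obtain ⟨y, hy⟩ := isConj_iff.1
      (H62.isConj_of_product hP hC (by norm_num) ht hti hgP hg1 hzz ha)
    have hSC : (S : Subgroup G) ≤ centralizer {((z : (S : Subgroup G)) : G)} := by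
      intro s hs
      rw [mem_centralizer_singleton_iff]
      exact congrArg Subtype.val (Subgroup.mem_center_iff.1 z.2 ⟨s, hs⟩)
    have hmap : (centralizer ({t} : Set G)).map (MulAut.conj y).toMonoidHom =
        centralizer {((z : (S : Subgroup G)) : G)} := by
      ext s
      rw [← hy, Subgroup.mem_map_equiv, MulAut.conj_symm_apply, mem_centralizer_singleton_iff,
        mem_centralizer_singleton_iff]
      constructor
      · intro e
        calc s * (y * t * y⁻¹) = y * (y⁻¹ * s * y * t) * y⁻¹ := by group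
          _ = y * (t * (y⁻¹ * s * y)) * y⁻¹ := by rw [e]
          _ = y * t * y⁻¹ * s := by group
      · intro e
        calc y⁻¹ * s * y * t = y⁻¹ * (s * (y * t * y⁻¹)) * y := by group
          _ = y⁻¹ * (y * t * y⁻¹ * s) * y := by rw [e]
          _ = t * (y⁻¹ * s * y) := by group
    have h16 := card_dvd_of_le hSC
    rw [hS, ← hmap, card_map_of_injective (MulAut.conj y).injective, ← hc, hc24] at h16
    norm_num at h16
  · have hv' : v = -7 ∨ v = -3 ∨ v = 1 ∨ v = 5 := by omega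
    have hnum : ∀ N : ℕ, ((c * c : ℕ) : ℂ) = (N : ℂ) → N < 1600 →
        (N = 864 ∨ N = 384 ∨ N = 96 ∨ N = 1536) → False := by
      intro N hN hlt hN'
      have h2 : c * c = N := by exact_mod_cast hN
      exact sq_ne2160 N (by simpa using hN') c (List.mem_range.2 (by nlinarith)) h2
    rcases hv' with rfl | rfl | rfl | rfl
    · exact hnum 1536 (by push_cast at hcc ⊢; linear_combination (1 / 5 : ℂ) * hcc) (by norm_num) (by simp)
    · exact hnum 864 (by push_cast at hcc ⊢; linear_combination (1 / 5 : ℂ) * hcc) (by norm_num) (by simp)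
    · exact hnum 384 (by push_cast at hcc ⊢; linear_combination (1 / 5 : ℂ) * hcc) (by norm_num) (by simp)
    · exact hnum 96 (by push_cast at hcc ⊢; linear_combination (1 / 5 : ℂ) * hcc) (by norm_num) (by simp)

end SmallOrder
end H4
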