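/-
No simple group has order 3600 (after the proof for 5400).
-/
import Cfsg.Agent.H62.SmallRangeHard

set_option autoImplicit false
set_option linter.unusedSectionVars false

namespace H4
namespace SmallOrder

open Subgroup H62 H62.SmallRange
open scoped Pointwise

variable {G : Type*} [Group G] [Finite G] [IsSimpleGroup G]

set_option maxHeartbeats 1000000 in
theorem card_ne_3600 : Nat.card G ≠ 3600 := by
  intro hn
  classical
  have hG : ¬ IsMulCommutative G := not_comm_of_not_prime (hn ▸ by norm_num)
  haveI : Fact (Nat.Prime 5) := ⟨by norm_num⟩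
  have hc : Nat.card G = 5 ^ 2 * 144 := by rw [hn]; norm_num
  obtain ⟨P₀⟩ := (inferInstance : Nonempty (Sylow 5 G))
  have hab : ∀ P : Sylow 5 G, IsMulCommutative (P : Subgroup G) := fun P =>
    IsPGroup.isMulCommutative_of_card_eq_prime_sq (card_sylow_coe hc (by norm_num) P)
  have hk := H65.sylow_candidate (p := 5) hG hn (m := 144) (a := 2) (by norm_num) (by norm_num) (by norm_num)
  rw [show (Nat.divisors 144).filter (fun d => d % 5 = 1 ∧ 1 < d ∧ 2 * 3600 ∣ d.factorial) = {16, 36}
    from by decide +kernel] at hk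
  obtain ⟨D, M, hDc, hM, hMtop, k, d, hMk, hik, hdk, hd1, hd5, hdc⟩ :=
    exists_index_of_not_modEq (p := 5) hc (by norm_num) (le_refl 2) (by
      simp only [Finset.mem_insert, Finset.mem_singleton] at hk
      rcases hk with h | h <;> rw [h] <;> decide)
  have hi := H65.index_candidate hG hn M hMtop
  have hidx : (M.index = 12 ∧ d = 6) ∨
      (k % 4 = 2 ∧ ¬ 5 ∣ k ∧ ∀ e ∈ (k / 2).divisors, e % 5 = 1 → e = 1) := by
    have hkd : k ∈ Nat.divisors 144 := Nat.mem_divisors.2 ⟨Dvd.intro_left _ hik, by norm_num⟩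
    have key : ∀ k ∈ Nat.divisors 144, ∀ i ∈ (Nat.divisors 3600).filter
        (fun d => 1 < d ∧ 2 * 3600 ∣ d.factorial), i * k = 144 →
        ∀ d ∈ k.divisors, 1 < d → d % 5 = 1 →
        (i = 12 ∧ d = 6) ∨ (k % 4 = 2 ∧ ¬ 5 ∣ k ∧ ∀ e ∈ (k / 2).divisors, e % 5 = 1 → e = 1) := by
      decide +kernel
    exact key k hkd _ hi hik d (Nat.mem_divisors.2 ⟨hdk, fun h => by rw [h] at hkd; simp at hkd⟩) hd1 hd5
  rcases hidx with ⟨h18, hd6⟩ | ⟨h4, h5, he⟩
  swap
  · have := card_sylow_five_eq_one (M := M) (k := k) (by rw [hMk]; norm_num) h4 h5 he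
    omega
  rw [hd6] at hdc
  have hMc : Nat.card M = 300 := by
    have := M.card_mul_index
    rw [h18, hn] at this
    omega
  norm_num at hDc
  have hDM : D ≤ M := hM ▸ D.le_normalizer
  -- the Sylow subgroups of `M`
  have hPM : ∀ R : Sylow 5 M, ∃ P : Sylow 5 G, (R : Subgroup M).map M.subtype = (P : Subgroup G) ∧
      (P : Subgroup G) ≤ M ∧ D ≤ (P : Subgroup G) := by
    intro R
    obtain ⟨P, hP⟩ := (R.isPGroup'.map M.subtype).exists_le_sylow
    have he : (R : Subgroup M).map M.subtype = (P : Subgroup G) := eq_of_le_of_card_ge hP (by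
      rw [card_map_of_injective M.subtype_injective,
        card_sylow_coe (a := 2) (m := 12) (by rw [hMc]; norm_num) (by norm_num) R,
        card_sylow_coe hc (by norm_num) P])
    refine ⟨P, he, he ▸ map_subtype_le _, ?_⟩
    haveI : (D.subgroupOf M).Normal := by rw [hM]; exact inferInstance
    have hDp : IsPGroup 5 (D.subgroupOf M) := IsPGroup.of_card (n := 1)
      (by rw [Nat.card_congr (subgroupOfEquivOfLe hDM).toEquiv, hDc]; norm_num)
    have hle : D.subgroupOf M ≤ (R : Subgroup M) :=
      le_sup_left.trans (R.3 (hDp.to_sup_of_normal_left R.isPGroup') le_sup_right).le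
    intro x hx
    exact he ▸ mem_map_of_mem M.subtype (hle (show (⟨x, hDM hx⟩ : M) ∈ D.subgroupOf M from hx))
  choose PP hPP hPPM hPPD using hPM
  -- `D` is central in `M`
  have hMD : ∀ x ∈ M, ∀ y ∈ D, y * x = x * y := by
    set Cd := (centralizer (D : Set G)).subgroupOf M with hCd
    haveI : Cd.Normal := by rw [hCd, hM]; exact inferInstance
    have hRC : ∀ R : Sylow 5 M, (R : Subgroup M) ≤ Cd := by
      intro R x hx
      rw [hCd, mem_subgroupOf, mem_centralizer_iff]
      intro y hy
      have h1 : (x : G) ∈ (PP R : Subgroup G) := hPP R ▸ mem_map_of_mem M.subtype hx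
      haveI := hab (PP R)
      exact congrArg Subtype.val
        (IsMulCommutative.is_comm.comm (⟨y, hPPD R hy⟩ : (PP R : Subgroup G)) ⟨_, h1⟩)
    suffices h : Cd = ⊤ by
      intro x hx y hy
      have := mem_subgroupOf.1 (h ▸ mem_top (⟨x, hx⟩ : M) : (⟨x, hx⟩ : M) ∈ Cd)
      exact mem_centralizer_iff.1 this y hy
    by_contra hne
    obtain ⟨R₁⟩ := (inferInstance : Nonempty (Sylow 5 M))
    obtain ⟨j, hj⟩ : 25 ∣ Nat.card Cd := by
      have := Subgroup.card_dvd_of_le (hRC R₁)
      rwa [card_sylow_coe (a := 2) (m := 12) (by rw [hMc]; norm_num) (by norm_num) R₁] at this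
    have hsub : Nat.card (Sylow 5 Cd) = 6 := by
      rw [← hdc]
      refine Nat.card_congr (Equiv.ofBijective
        (fun R : Sylow 5 Cd => Classical.choose ((R.isPGroup'.map Cd.subtype).exists_le_sylow)) ⟨?_, ?_⟩)
      · intro R R' h
        have h1 := Classical.choose_spec ((R.isPGroup'.map Cd.subtype).exists_le_sylow)
        have h2 := Classical.choose_spec ((R'.isPGroup'.map Cd.subtype).exists_le_sylow)
        simp only at h
        have key : ∀ R : Sylow 5 Cd, ∀ Q : Sylow 5 M, (R : Subgroup Cd).map Cd.subtype ≤ Q →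
            (R : Subgroup Cd) = (Q : Subgroup M).subgroupOf Cd := by
          intro R Q hle
          refine (R.3 (Q.isPGroup'.comap_subtype) fun x hx => ?_).symm
          exact hle (mem_map_of_mem Cd.subtype hx)
        exact Sylow.ext ((key R _ h1).trans ((key R' _ (h ▸ h2)).symm))
      · intro Q
        refine ⟨Q.subtype (hRC Q), ?_⟩
        have h1 := Classical.choose_spec (((Q.subtype (hRC Q)).isPGroup'.map Cd.subtype).exists_le_sylow)
        refine Sylow.ext (Q.3 (Classical.choose (((Q.subtype (hRC Q)).isPGroup'.map Cd.subtype).exists_le_sylow)).isPGroup' fun x hx => h1 ?_)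
        exact ⟨⟨x, hRC Q hx⟩, hx, rfl⟩
    have hj12 : j ∣ 12 := by
      have := Cd.card_subgroup_dvd_card
      rw [hj, hMc, show (300 : ℕ) = 25 * 12 from rfl] at this
      exact Nat.dvd_of_mul_dvd_mul_left (by norm_num) this
    have h6 : 6 ∣ j := hsub ▸ card_sylow_dvd (a := 2) (by rw [hj]; norm_num)
      (fun h => by have := h.trans hj12; norm_num at this)
    have hj6 : j = 6 := by
      have hne12 : j ≠ 12 := fun h => hne (eq_top_of_card_eq _ (by rw [hj, h, hMc]))
      have := Nat.le_of_dvd (by norm_num) hj12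
      have : j ≠ 0 := fun h => by rw [h] at hj; simp at hj; exact Nat.card_pos.ne' hj
      omega
    have := card_sylow_five_eq_one (M := Cd) (k := 6) (by rw [hj, hj6]) (by norm_num) (by norm_num)
      (by decide +kernel)
    omega
  have hDtop : D ≠ ⊥ := fun h => by rw [h, card_bot] at hDc; norm_num at hDc
  obtain ⟨x, hxD, hx⟩ := H70.exists_mem_orderOf D 5 (by norm_num) (by rw [hDc])
  have hx1 : x ≠ 1 := H70.ne_one_of_orderOf_prime (by norm_num) hx
  have hDeq : D = zpowers x := (eq_of_le_of_card_ge (zpowers_le.2 hxD)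
    (by rw [Nat.card_zpowers, hx, hDc])).symm
  have hCx : ∀ g : G, Commute g x → g ∈ M := by
    intro g hg
    rw [hM, hDeq]
    refine centralizer_le_normalizer _ (mem_centralizer_iff.2 fun v hv => ?_)
    obtain ⟨j, rfl⟩ := mem_zpowers_iff.1 hv
    exact (hg.symm.zpow_left j).eq
  -- cosets fixed by `x`
  have hfixiff : ∀ g : G, x • (g : G ⧸ M) = g ↔ Commute x (g * x * g⁻¹) := by
    intro g
    rw [MulAction.Quotient.smul_mk, QuotientGroup.eq, smul_eq_mul, mul_inv_rev]
    constructor
    · intro h
      have h1 : g⁻¹ * x * g ∈ M := by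
        have := inv_mem h; simpa [mul_assoc] using this
      have h2 : Commute (g⁻¹ * x * g) x := (hMD _ h1 x hxD).symm
      have h3 := (H99conj3600 g _ _).2 h2
      rwa [show g * (g⁻¹ * x * g) * g⁻¹ = x by group] at h3
    · intro h
      have h3 := (H99conj3600 g⁻¹ _ _).2 h
      rw [inv_inv, show g⁻¹ * (g * x * g⁻¹) * g = x by group] at h3
      have h4 := inv_mem (hCx _ h3)
      simpa [mul_assoc] using h4
  have hmove : ∀ g : G, x • (g : G ⧸ M) ≠ g → g * x * g⁻¹ ∉ M := fun g hg h =>
    hg ((hfixiff g).2 (hMD _ h x hxD))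
  -- at least thirteen fixed cosets
  set W := {α : G ⧸ M // x • α ≠ α} with hW
  have hfix : 7 ≤ Nat.card (MulAction.fixedBy (G ⧸ M) x) := by
    have hA : ∀ R : Sylow 5 M, ∃ g₁ : G, g₁ ∈ normalizer ((PP R : Subgroup G) : Set G) ∧ g₁ ∉ M := by
      intro R
      set N := normalizer ((PP R : Subgroup G) : Set G) with hN
      have hNM : Nat.card (N ⊓ M : Subgroup G) = 50 := by
        have h1 := card_normalizer_mul R
        rw [hdc, hMc] at h1
        have e : normalizer ((R : Subgroup M) : Set M) = (N ⊓ M).subgroupOf M := by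
          ext z
          simp only [mem_subgroupOf, mem_inf, z.2, and_true, hN, mem_normalizer_iff, SetLike.mem_coe,
            Subgroup.coe_mul, Subgroup.coe_inv, ← hPP R]
          refine ⟨fun h v => ?_, fun h v => ?_⟩
          · by_cases hv : v ∈ M
            · simp [mem_map, hv, mul_mem, inv_mem, z.2]; exact h ⟨v, hv⟩
            · refine iff_of_false (fun h' => hv (map_subtype_le _ h')) fun h' => hv ?_
              have h2 := mul_mem (mul_mem (inv_mem z.2) (map_subtype_le _ h')) z.2
              rwa [show (z : G)⁻¹ * ((z : G) * v * (z : G)⁻¹) * (z : G) = v by group] at h2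
          · have h1 := h (v : G); simp [mem_map, mul_mem, inv_mem, z.2, v.2] at h1; exact h1
        rw [e, Nat.card_congr (subgroupOfEquivOfLe inf_le_right).toEquiv] at h1
        omega
      have hNc : Nat.card N = 100 := by
        have h1 : Nat.card N * Nat.card (Sylow 5 G) = Nat.card G := card_normalizer_mul (PP R)
        have h50 : 50 ∣ Nat.card N := hNM ▸ card_dvd_of_le inf_le_left
        simp only [Finset.mem_insert, Finset.mem_singleton] at hk
        rcases hk with h | h <;> rw [h, hn] at h1 <;> omega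
      have hex : ¬ N ≤ M := by
        intro hle
        have e : (N ⊓ M : Subgroup G) = N := inf_eq_left.2 hle
        rw [e, hNc] at hNM
        omega
      obtain ⟨g, hgN, hgM⟩ := Set.not_subset.1 hex
      exact ⟨g, hgN, hgM⟩
    choose g₁ hg₁ hg₁M using hA
    have hinP : ∀ (R : Sylow 5 M) (g : G), g ∈ normalizer ((PP R : Subgroup G) : Set G) →
        g * x * g⁻¹ ∈ (PP R : Subgroup G) := fun R g hg =>
      (mem_normalizer_iff.1 hg x).1 (hPPD R hxD)
    have hfixed : ∀ (R : Sylow 5 M) (g : G), g ∈ normalizer ((PP R : Subgroup G) : Set G) →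
        x • (g : G ⧸ M) = g := fun R g hg =>
      (hfixiff g).2 (hMD _ (hPPM R (hinP R g hg)) x hxD)
    have hsame : ∀ (R R' : Sylow 5 M) (g g' : G), g ∈ normalizer ((PP R : Subgroup G) : Set G) →
        g' ∈ normalizer ((PP R' : Subgroup G) : Set G) → g ∉ M → (g : G ⧸ M) = g' → R = R' := by
      intro R R' g g' hg hg' hgM heq
      by_contra hne
      have hne' : (PP R : Subgroup G) ≠ (PP R' : Subgroup G) := fun h => hne (Sylow.ext
        (Subgroup.map_injective M.subtype_injective (by rw [hPP R, hPP R', h])))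
      have hmem : g * x * g⁻¹ ∈ (PP R' : Subgroup G) := by
        obtain ⟨m, hm, rfl⟩ : ∃ m ∈ M, g = g' * m :=
          ⟨g'⁻¹ * g, QuotientGroup.eq.1 heq.symm, by group⟩
        have : g' * m * x * (g' * m)⁻¹ = g' * x * g'⁻¹ := by
          calc g' * m * x * (g' * m)⁻¹ = g' * (m * x) * m⁻¹ * g'⁻¹ := by group
            _ = g' * (x * m) * m⁻¹ * g'⁻¹ := by rw [hMD m hm x hxD]
            _ = _ := by group
        rw [this]
        exact hinP R' g' hg'
      have hI : ((PP R : Subgroup G) ⊓ (PP R' : Subgroup G)) = D := by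
        refine (eq_of_le_of_card_ge (le_inf (hPPD R) (hPPD R')) ?_).symm
        set I : Subgroup G := (PP R : Subgroup G) ⊓ (PP R' : Subgroup G)
        have h1 : Nat.card I ∣ 5 ^ 2 := by
          rw [← card_sylow_coe hc (by norm_num) (PP R)]
          exact card_dvd_of_le inf_le_left
        obtain ⟨i, hi2, hIc⟩ := (Nat.dvd_prime_pow (by norm_num)).1 h1
        rw [hIc, hDc]
        rcases Nat.lt_or_ge i 2 with h | h
        · calc 5 ^ i ≤ 5 ^ 1 := Nat.pow_le_pow_right (by norm_num) (by omega)
            _ = 5 := by norm_num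
        · exfalso
          obtain rfl : i = 2 := by omega
          have e1 : I = (PP R : Subgroup G) := eq_of_le_of_card_ge inf_le_left
            (by rw [hIc, card_sylow_coe hc (by norm_num) (PP R)])
          exact hne' (eq_of_le_of_card_ge (e1 ▸ inf_le_right)
            (by rw [card_sylow_coe hc (by norm_num) (PP R), card_sylow_coe hc (by norm_num) (PP R')]))
      have hgx : g * x * g⁻¹ ∈ D := hI ▸ ⟨hinP R g hg, hmem⟩
      refine hgM ?_
      rw [hM, hDeq] at *
      exact mem_normalizer_zpowers x g hgx (by rw [hx]; norm_num)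
    let φ : Option (Sylow 5 M) → MulAction.fixedBy (G ⧸ M) x := fun o =>
      o.elim ⟨((1 : G) : G ⧸ M), (hfixiff 1).2 (by simp)⟩ fun q => ⟨(g₁ q : G ⧸ M), hfixed q _ (hg₁ q)⟩
    have hno1 : ∀ g : G, g ∉ M → (g : G ⧸ M) ≠ ((1 : G) : G ⧸ M) := fun g hg h => hg (by
      rw [QuotientGroup.eq, mul_one] at h; exact inv_mem_iff.1 h)
    have hφ : Function.Injective φ := by
      intro o o' h
      rcases o with _ | R <;> rcases o' with _ | R'
      · rfl
      · exact absurd (congrArg Subtype.val h).symm (hno1 _ (hg₁M R'))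
      · exact absurd (congrArg Subtype.val h) (hno1 _ (hg₁M R))
      · rw [hsame R R' _ _ (hg₁ R) (hg₁ R') (hg₁M R) (congrArg Subtype.val h)]
    have := Nat.card_le_card_of_injective φ hφ
    rw [Finite.card_option, hdc] at this
    simpa using this
  -- five moved cosets
  have hW5 : Nat.card W = 5 := by
    have hsum : Nat.card (MulAction.fixedBy (G ⧸ M) x) + Nat.card W = 12 := by
      have := Nat.card_congr (Equiv.sumCompl (fun α : G ⧸ M => x • α = α))
      rw [Nat.card_sum] at this
      rw [← h18]
      exact this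
    have hmod := H70.fixedBy_modEq_index (p := 5) M (hx ▸ pow_orderOf_eq_one x)
    rw [h18] at hmod
    have hpos : 0 < Nat.card W := by
      obtain ⟨z, hz⟩ := H65.exists_not_fixed hMtop hx1
      haveI : Nonempty W := ⟨⟨z, hz⟩⟩
      exact Nat.card_pos
    omega
  -- the action of `M` on them
  have hcomm : ∀ m ∈ M, Commute x m := fun m hm => hMD m hm x hxD
  let act : M →* Equiv.Perm W :=
    { toFun := fun m => (MulAction.toPerm (m : G)).subtypePerm fun α => by
        simp only [MulAction.toPerm_apply, ne_eq]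
        rw [← mul_smul, (hcomm m m.2).eq, mul_smul]
        exact not_congr (MulAction.injective (m : G)).eq_iff
      map_one' := by ext α; simp
      map_mul' := fun a b => by ext α; simp [mul_smul] }
  set K := act.ker with hK
  have hxM : x ∈ M := hDM hxD
  have hrange : Nat.card act.range ≤ 5 := by
    obtain ⟨w₀⟩ : Nonempty W := (Nat.card_pos_iff.1 (by omega)).1
    have horb : ∀ w : W, ∃ j : ℕ, j < 5 ∧ x ^ j • (w₀ : G ⧸ M) = w := by
      let f : Fin 5 → W := fun j => ⟨x ^ (j : ℕ) • (w₀ : G ⧸ M), by
        rw [← mul_smul, ← pow_succ', pow_succ, mul_smul]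
        exact fun h => w₀.2 ((MulAction.injective (x ^ (j : ℕ))).eq_iff.1 h)⟩
      have hf : Function.Injective f := by
        intro a b hab
        by_contra hne
        have hab : x ^ (a : ℕ) • (w₀ : G ⧸ M) = x ^ (b : ℕ) • (w₀ : G ⧸ M) := congrArg Subtype.val hab
        have key : ∀ a b : ℕ, a < b → b < 5 → x ^ a • (w₀ : G ⧸ M) ≠ x ^ b • (w₀ : G ⧸ M) := by
          intro a b hlt hb hEq
          obtain ⟨c, rfl⟩ : ∃ c, b = a + c := ⟨b - a, by omega⟩
          rw [pow_add, mul_smul, (MulAction.injective (x ^ a)).eq_iff] at hEq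
          have hcop : Nat.Coprime c 5 :=
            ((Nat.Prime.coprime_iff_not_dvd (by norm_num)).2 fun h => by
              have := Nat.le_of_dvd (by omega) h; omega).symm
          obtain ⟨e, he⟩ := Nat.exists_mul_mod_eq_one_of_coprime hcop (by norm_num)
          have hpow : ∀ j : ℕ, (x ^ c) ^ j • (w₀ : G ⧸ M) = w₀ := fun j => by
            induction j with
            | zero => simp
            | succ j ih => rw [pow_succ, mul_smul, ← hEq, ih]
          apply w₀.2
          have h1 := hpow e
          rw [← pow_mul, ← pow_mod_orderOf, hx, he.2, pow_one] at h1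
          exact h1
        rcases lt_trichotomy (a : ℕ) b with h | h | h
        · exact key _ _ h b.2 hab
        · exact hne (Fin.ext h)
        · exact key _ _ h a.2 hab.symm
      intro w
      obtain ⟨j, hj⟩ := ((Nat.bijective_iff_injective_and_card f).2
        ⟨hf, by rw [Nat.card_fin, hW5]⟩).2 w
      exact ⟨j, j.2, congrArg Subtype.val hj⟩
    rw [← hW5]
    refine Nat.card_le_card_of_injective (fun σ => (σ : Equiv.Perm W) w₀) fun σ τ h => ?_
    obtain ⟨_, m, rfl⟩ := σ
    obtain ⟨_, m', rfl⟩ := τ
    refine Subtype.ext (Equiv.ext fun w => Subtype.ext ?_)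
    obtain ⟨j, -, hj⟩ := horb w
    have h' : (m : G) • (w₀ : G ⧸ M) = (m' : G) • (w₀ : G ⧸ M) := congrArg Subtype.val h
    show (m : G) • (w : G ⧸ M) = (m' : G) • (w : G ⧸ M)
    rw [← hj, ← mul_smul, ← mul_smul, ← ((hcomm m m.2).pow_left j).eq,
      ← ((hcomm m' m'.2).pow_left j).eq, mul_smul, mul_smul, h']
  have hKc : 60 ≤ Nat.card K := by
    have h1 := K.card_mul_index
    rw [hK, index_ker, hMc] at h1
    rw [hK]
    nlinarith
  set K' := K.map M.subtype with hK'
  have hK'M : K' ≤ M := map_subtype_le _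
  have hK'c : Nat.card K' = Nat.card K := card_map_of_injective M.subtype_injective
  obtain ⟨w⟩ : Nonempty W := (Nat.card_pos_iff.1 (by omega)).1
  obtain ⟨α, hα⟩ := w
  induction α using QuotientGroup.induction_on with
  | H g =>
    have hyM := hmove g hα
    set y := g * x * g⁻¹ with hy
    have hyK : ∀ v ∈ K', Commute v y := by
      rintro _ ⟨v, hv, rfl⟩
      have h1 : (v : G) • (g : G ⧸ M) = g :=
        congrArg Subtype.val (Equiv.ext_iff.1 (MonoidHom.mem_ker.1 hv) ⟨(g : G ⧸ M), hα⟩)
      rw [MulAction.Quotient.smul_mk, QuotientGroup.eq, smul_eq_mul, mul_inv_rev] at h1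
      have h2 : Commute (g⁻¹ * v * g) x := by
        have := (hcomm _ (inv_mem h1)).symm
        simpa [mul_assoc] using this
      have h3 := (H99conj3600 g _ _).2 h2
      rwa [show g * (g⁻¹ * v * g) * g⁻¹ = (v : G) by group] at h3
    have hyN : y ∈ normalizer (K' : Set G) := by
      rw [mem_normalizer_iff]
      intro v
      constructor
      · intro hv
        rw [(hyK v hv).symm.eq, mul_inv_cancel_right]; exact hv
      · intro hv
        have := (hyK _ hv).eq
        have e : y * v * y⁻¹ = v := by
          have h2 : y * (y * v * y⁻¹) * y⁻¹ = y * v * y⁻¹ := by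
            rw [← this, mul_inv_cancel_right]
          exact mul_left_cancel (mul_right_cancel h2)
        rwa [e] at hv
    have hMN : M ≤ normalizer (K' : Set G) := by
      intro m hm
      rw [mem_normalizer_iff]
      intro v
      have hKn : K.Normal := MonoidHom.normal_ker act
      constructor
      · rintro ⟨v, hv, rfl⟩
        exact ⟨⟨m, hm⟩ * v * ⟨m, hm⟩⁻¹, hKn.conj_mem v hv _, rfl⟩
      · rintro ⟨u, hu, hue⟩
        refine ⟨⟨m, hm⟩⁻¹ * u * ⟨m, hm⟩, ?_, ?_⟩
        · simpa using hKn.conj_mem u hu (⟨m, hm⟩⁻¹)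
        · simp only [coe_subtype, Subgroup.coe_mul, Subgroup.coe_inv] at hue ⊢
          rw [hue]; group
    set L := normalizer (K' : Set G) with hL
    have hLtop : L ≠ ⊤ := by
      intro h
      rcases (normalizer_eq_top_iff.1 h).eq_bot_or_eq_top with h1 | h1
      · rw [h1, card_bot] at hK'c; omega
      · exact hMtop (top_le_iff.1 (h1 ▸ hK'M))
    have hLi := H65.index_candidate hG hn L hLtop
    have hdvd : L.index ∣ 12 := h18 ▸ index_dvd_of_le hMN
    have hlt18 : L.index ≠ 12 := by
      intro h
      have h1 := relIndex_mul_index hMN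
      rw [h, h18] at h1
      have h2 : M.relIndex L = 1 := by omega
      exact hyM (relIndex_eq_one.1 h2 hyN)
    have key : ∀ i ∈ (Nat.divisors 3600).filter (fun d => 1 < d ∧ 2 * 3600 ∣ d.factorial),
        i ∣ 12 → i = 12 := by decide +kernel
    exact hlt18 (key _ hLi hdvd)
where
  H99conj3600 (g a b : G) : Commute (g * a * g⁻¹) (g * b * g⁻¹) ↔ Commute a b := by
    constructor
    · intro h
      have := h.map (MulAut.conj g⁻¹).toMonoidHom
      simpa [MulAut.conj_apply, mul_assoc] using this
    · intro h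
      have := h.map (MulAut.conj g).toMonoidHom
      simpa [MulAut.conj_apply] using this
  mem_normalizer_zpowers (x g : G) (h : g * x * g⁻¹ ∈ zpowers x) (hx : 1 < orderOf x) :
      g ∈ normalizer (zpowers x : Set G) := by
    have hmap : (zpowers x).map (MulAut.conj g).toMonoidHom = zpowers x := by
      refine eq_of_le_of_card_ge ?_ (card_map_of_injective (MulAut.conj g).injective).ge
      rw [MonoidHom.map_zpowers, zpowers_le]
      simpa using h
    rw [mem_normalizer_iff_map_conj_eq]
    exact hmap

end SmallOrder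
end H4
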