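/-
The orders of the simple groups of order below 6000.
-/
import Cfsg.Agent.H4.SmallOrder.Hard
import Cfsg.Agent.H4.SmallOrder.Order1512
import Cfsg.Agent.H4.SmallOrder.Order1680
import Cfsg.Agent.H4.SmallOrder.Order2160
import Cfsg.Agent.H4.SmallOrder.Order3600
import Cfsg.Agent.S0496
import Cfsg.Agent.S0983

set_option autoImplicit false

namespace H4
namespace SmallOrder

universe u

variable {G : Type u} [Group G] [Finite G] [IsSimpleGroup G]

/-- A non-abelian simple group of order between 1093 and 3640 has order 2448, 2520 or 3420. -/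
theorem card_mem_middle (hG : ¬ IsMulCommutative G) (h1 : 1092 < Nat.card G) (h2 : Nat.card G ≤ 3640) :
    Nat.card G = 2448 ∨ Nat.card G = 2520 ∨ Nat.card G = 3420 := by
  have h := card_mem_survivors hG h1 h2
  simp only [survivors, List.mem_cons, List.not_mem_nil, or_false] at h
  have e1224 : Nat.card G ≠ 1224 := card_ne_1224
  have e1232 : Nat.card G ≠ 1232 := card_ne_1232
  have e1260 : Nat.card G ≠ 1260 := card_ne_1260
  have e1344 : Nat.card G ≠ 1344 := card_ne_1344
  have e1404 : Nat.card G ≠ 1404 := card_ne_1404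
  have e1440 : Nat.card G ≠ 1440 := Cfsg.Agent.S1016.result
  have e1512 : Nat.card G ≠ 1512 := card_ne_1512
  have e1560 : Nat.card G ≠ 1560 := card_ne_1560
  have e1620 : Nat.card G ≠ 1620 := card_ne_1620
  have e1680 : Nat.card G ≠ 1680 := card_ne_1680
  have e1716 : Nat.card G ≠ 1716 := card_ne_1716
  have e1800 : Nat.card G ≠ 1800 := card_ne_1800
  have e1980 : Nat.card G ≠ 1980 := card_ne_1980
  have e2016 : Nat.card G ≠ 2016 := Cfsg.Agent.S1017.result
  have e2080 : Nat.card G ≠ 2080 := card_ne_2080
  have e2100 : Nat.card G ≠ 2100 := card_ne_2100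
  have e2160 : Nat.card G ≠ 2160 := card_ne_2160
  have e2268 : Nat.card G ≠ 2268 := card_ne_2268
  have e2400 : Nat.card G ≠ 2400 := card_ne_2400
  have e2464 : Nat.card G ≠ 2464 := card_ne_2464
  have e2688 : Nat.card G ≠ 2688 := card_ne_2688
  have e2700 : Nat.card G ≠ 2700 := card_ne_2700
  have e2808 : Nat.card G ≠ 2808 := card_ne_2808
  have e2880 : Nat.card G ≠ 2880 := card_ne_2880
  have e2976 : Nat.card G ≠ 2976 := card_ne_2976
  have e3024 : Nat.card G ≠ 3024 := card_ne_3024
  have e3080 : Nat.card G ≠ 3080 := card_ne_3080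
  have e3120 : Nat.card G ≠ 3120 := card_ne_3120
  have e3168 : Nat.card G ≠ 3168 := card_ne_3168
  have e3240 : Nat.card G ≠ 3240 := card_ne_3240
  have e3360 : Nat.card G ≠ 3360 := card_ne_3360
  have e3432 : Nat.card G ≠ 3432 := card_ne_3432
  have e3444 : Nat.card G ≠ 3444 := card_ne_3444
  have e3600 : Nat.card G ≠ 3600 := card_ne_3600
  omega

/-- The orders of the non-abelian simple groups of order below 6000. -/
def orders : Finset ℕ := {60, 168, 360, 504, 660, 1092, 2448, 2520, 3420, 4080, 5616}

theorem card_mem_orders (hG : ¬ IsMulCommutative G) (h : Nat.card G < 6000) :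
    Nat.card G ∈ orders := by
  simp only [orders, Finset.mem_insert, Finset.mem_singleton]
  rcases Nat.lt_or_ge 1092 (Nat.card G) with h1 | h1
  · rcases Nat.lt_or_ge 3640 (Nat.card G) with h2 | h2
    · have := Cfsg.Agent.S0983.result hG h2 (by omega)
      omega
    · have := card_mem_middle hG h1 h2
      omega
  · have := Cfsg.Agent.S0496.result hG h1
    omega

end SmallOrder
end H4
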